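import Cfsg.Agent.ClassTech.RankTwoChief.Small
import Cfsg.Agent.Lib.Coprime.Action
import Cfsg.Agent.Lib.PGroup.Basic
import Cfsg.Agent.OddLocal44.FixedPointStab
import Cfsg.Agent.LAE65.CyclicPGroup

/-!
A rank two `p`-group with an inverting involution with small fixed points: irreducible top sections have
order at most `p ^ 2`.
-/

set_option autoImplicit false

namespace Cfsg.Agent.ClassTech.RankTwoChief

open Subgroup
open scoped commutatorElement

variable {p : ℕ} [hp : Fact p.Prime] {M : Type*} [Group M] [Finite M]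

theorem eq_one_or_sq_mem (hp2 : p ≠ 2) (hM : IsPGroup p M) (H : Subgroup M) {x : M}
    (h : x * x ∈ H) : x ∈ H := by
  obtain ⟨m, hm⟩ := exists_pow_eq_self_of_coprime (x := x) (n := 2) (by
    obtain ⟨k, hk⟩ := IsPGroup.iff_card.mp hM
    exact Nat.Coprime.coprime_dvd_right (orderOf_dvd_natCard x)
      (hk ▸ ((Nat.coprime_primes Nat.prime_two hp.out).mpr (Ne.symm hp2)).pow_right k))
  rw [← hm, pow_two]
  exact pow_mem h m

/-- A fixed point in a coset of an invariant subgroup, for an involution. -/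
theorem exists_fixed_mul (hp2 : p ≠ 2) (hM : IsPGroup p M) (t : MulAut M) (ht : ∀ x, t (t x) = x)
    (N : Subgroup M) {x : M} (hx : x⁻¹ * t x ∈ N) : ∃ n ∈ N, t (x * n) = x * n := by
  set c := x⁻¹ * t x with hc
  have htc : t c = c⁻¹ := by rw [hc, map_mul, map_inv, ht, mul_inv_rev, inv_inv]
  obtain ⟨m, hm⟩ := exists_pow_eq_self_of_coprime (x := c) (n := 2) (by
    obtain ⟨k, hk⟩ := IsPGroup.iff_card.mp hM
    exact Nat.Coprime.coprime_dvd_right (orderOf_dvd_natCard c)
      (hk ▸ ((Nat.coprime_primes Nat.prime_two hp.out).mpr (Ne.symm hp2)).pow_right k))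
  refine ⟨c ^ m, pow_mem hx m, ?_⟩
  have h2 : c ^ m * c ^ m = c := by rw [← pow_two, ← pow_mul, mul_comm, pow_mul, hm]
  rw [map_mul, map_pow, htc, inv_pow]
  rw [show t x = x * c by rw [hc]; group, mul_assoc]
  congr 1
  exact mul_inv_eq_of_eq_mul h2.symm

theorem zpowers_eq_of_not_pow (hM : IsPGroup p M) {c z : M} (hz : z ∈ zpowers c)
    (hn : z ∉ zpowers (c ^ p)) : c ∈ zpowers z := by
  obtain ⟨i, rfl⟩ := mem_zpowers_iff.mp hz
  have hi : ¬ (p : ℤ) ∣ i := fun ⟨j, hj⟩ => hn ⟨j, by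
    show (c ^ p) ^ j = c ^ i
    rw [hj, _root_.zpow_mul, zpow_natCast]⟩
  obtain ⟨k, hk⟩ := hM c
  have hco : IsCoprime i ((p : ℤ) ^ k) :=
    ((Nat.prime_iff_prime_int.mp hp.out).coprime_iff_not_dvd.mpr hi).symm.pow_right
  obtain ⟨a, b, hab⟩ := hco
  refine mem_zpowers_iff.mpr ⟨a, ?_⟩
  have h1 : c ^ ((p : ℤ) ^ k) = 1 := by rw [← Nat.cast_pow, zpow_natCast, hk]
  calc (c ^ i) ^ a = c ^ (a * i) * (c ^ ((p : ℤ) ^ k)) ^ b := by
        rw [h1, one_zpow, mul_one, ← _root_.zpow_mul, mul_comm]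
    _ = c := by rw [← _root_.zpow_mul, ← zpow_add, mul_comm ((p : ℤ) ^ k) b, hab, zpow_one]

/-- A second subgroup of order `p` gives one centralizing the first. -/
theorem exists_commuting_of_not_mem_zpowers {C : Type*} [Group C] [Finite C] (hC : IsPGroup p C)
    {x y : C} (hx : x ^ p = 1) (hx1 : x ≠ 1) (hy : y ^ p = 1) (hyx : y ∉ Subgroup.zpowers x) :
    ∃ z : C, z ∉ Subgroup.zpowers x ∧ z ^ p = 1 ∧ Commute z x := by
  set H := closure ({x, y} : Set C) with hH
  have hHp : IsPGroup p H := hC.to_subgroup H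
  by_cases hcom : Commute y x
  · exact ⟨y, hyx, hy, hcom⟩
  have hne : (center H : Subgroup H) ≠ ⊥ := by
    haveI : Nontrivial H := ⟨⟨x, subset_closure (Set.mem_insert _ _)⟩, 1,
      fun h => hx1 (congrArg Subtype.val h)⟩
    exact (nontrivial_iff_ne_bot _).mp hHp.center_nontrivial
  obtain ⟨w, hw, hw1, hwp⟩ := PGroup.exists_mem_pow_eq_one hHp hne
  refine ⟨(w : C), fun hwx => hcom ?_, by exact_mod_cast congrArg Subtype.val hwp,
    congrArg Subtype.val (mem_center_iff.mp hw ⟨x, subset_closure (Set.mem_insert _ _)⟩).symm⟩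
  have hxw : x ∈ Subgroup.zpowers (w : C) := by
    have h1 : Subgroup.zpowers (w : C) = Subgroup.zpowers x := by
      refine eq_of_le_of_card_ge ((zpowers_le).mpr hwx) ?_
      rw [Nat.card_zpowers, Nat.card_zpowers, orderOf_eq_prime hx hx1, orderOf_eq_prime
        (by exact_mod_cast congrArg Subtype.val hwp) fun h => hw1 (Subtype.ext h)]
    rw [h1]; exact mem_zpowers x
  obtain ⟨k, hk⟩ := mem_zpowers_iff.mp hxw
  rw [← hk]
  exact (show Commute y (w : C) from congrArg Subtype.val (mem_center_iff.mp hw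
    ⟨y, subset_closure (Set.mem_insert_of_mem _ rfl)⟩)).zpow_right k

theorem comm_zpow_left {Q : Type*} [Group Q] (h : commutator Q ≤ center Q) (a b : Q) :
    ∀ n : ℤ, ⁅a ^ n, b⁆ = ⁅a, b⁆ ^ n
  | (n : ℕ) => by rw [zpow_natCast, zpow_natCast, PGroup.comm_pow_left h]
  | Int.negSucc n => by
    rw [zpow_negSucc, zpow_negSucc, PGroup.comm_inv_left h, PGroup.comm_pow_left h]

/-- The main lemma. -/
theorem index_le_sq_of_inverted (hp2 : p ≠ 2) (hM : IsPGroup p M) (hr : Cfsg.PRankLE p 2 M)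
    (S : Set (MulAut M)) (t : MulAut M) (hS : ∀ φ ∈ S, ∀ x, φ (t x) = t (φ x))
    (ht : ∀ x, t (t x) = x) (K : Subgroup M) [hKn : K.Normal] (hKne : K ≠ ⊤)
    (hinv : ∀ x, t x * x ∈ K)
    (hmin : ∀ N : Subgroup M, N.Normal → (∀ φ ∈ S, ∀ x ∈ N, φ x ∈ N) → N ≠ ⊤ → N ≤ K)
    (hcyc : ∀ E : Subgroup M, IsMulCommutative E → (∀ a ∈ E, a ^ p = 1) → (∀ a ∈ E, t a = a) →
      Nat.card E ≤ p) :
    K.index ≤ p ^ 2 := by
  classical
  haveI := hM.isNilpotent
  haveI : Nontrivial M := by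
    by_contra h
    rw [not_nontrivial_iff_subsingleton] at h
    exact hKne (Subsingleton.elim _ _)
  set D := commutator M with hD
  set G3 := ⁅D, (⊤ : Subgroup M)⁆ with hG3
  set G4 := ⁅G3, (⊤ : Subgroup M)⁆ with hG4
  haveI : D.Characteristic := inferInstance
  haveI hG3c : G3.Characteristic := inferInstance
  haveI : G4.Normal := inferInstance
  have hDne : D ≠ ⊤ := by
    intro h
    exact top_ne_bot (α := Subgroup M) (Coprime.eq_bot_of_le_commutator (G := M) ⊤
      (Group.nilpotent_of_mulEquiv (Subgroup.topEquiv (G := M)).symm) le_rfl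
      (by rw [← _root_.commutator_def, ← hD, h]))
  have hG3D : G3 ≤ D := commutator_le_left D ⊤
  have hDK : D ≤ K := hmin D inferInstance
    (fun φ _ x hx => (Subgroup.characteristic_iff_le_comap.mp inferInstance φ) hx) hDne
  -- the Frattini subgroup lies in `K`
  have hKp : ∀ x : M, x ^ p ∈ K := fun x =>
    hmin (frattini M) inferInstance
      (fun φ _ y hy => (Subgroup.characteristic_iff_le_comap.mp inferInstance φ) hy)
      (fun h => by
        have := frattini_nongenerating (G := M) (K := ⊥) (by rw [bot_sup_eq, h])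
        exact bot_ne_top this) (PGroup.pow_mem_frattini hM x)
  -- `t` inverts modulo the derived subgroup
  have hinvD : ∀ x : M, t x * x ∈ D := by
    let π := QuotientGroup.mk' D
    have hcq : ∀ a b : M ⧸ D, a * b = b * a := by
      intro a b
      obtain ⟨a, rfl⟩ := QuotientGroup.mk'_surjective D a
      obtain ⟨b, rfl⟩ := QuotientGroup.mk'_surjective D b
      rw [← commutatorElement_eq_one_iff_mul_comm, ← map_commutatorElement]
      exact (QuotientGroup.eq_one_iff _).mpr (PGroup.commutatorElement_mem_commutator a b)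
    let f : M →* M ⧸ D := MonoidHom.mk' (fun x => π (t x) * π x) fun a b => by
      simp only [map_mul]
      rw [mul_assoc (π (t a)) (π (t b)), ← mul_assoc (π (t b)) (π a), hcq (π (t b)) (π a)]
      simp [mul_assoc]
    intro x
    have hf : ∀ y, y ∈ f.ker ↔ t y * y ∈ D := fun y => by
      rw [MonoidHom.mem_ker]
      show π (t y) * π y = 1 ↔ _
      rw [← map_mul]; exact QuotientGroup.eq_one_iff _
    rw [← hf]
    by_contra hx
    have hle : f.ker ≤ K := hmin f.ker inferInstance (fun φ hφ y hy => by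
      rw [hf] at hy ⊢
      rw [← hS φ hφ, ← map_mul]
      exact (Subgroup.characteristic_iff_le_comap.mp inferInstance φ) hy) fun h => hx (h ▸ mem_top x)
    apply hKne
    rw [eq_top_iff]
    intro y _
    have h1 : y⁻¹ * t y ∈ K := hle ((hf _).mpr (by
      rw [map_mul, map_inv, ht, ← QuotientGroup.eq_one_iff, ← QuotientGroup.mk'_apply]
      simp only [map_mul, map_inv]
      rw [mul_assoc, ← mul_assoc (π y) (π y)⁻¹, mul_inv_cancel, one_mul, inv_mul_cancel]))
    refine eq_one_or_sq_mem hp2 hM K ?_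
    have h3 : y * (y⁻¹ * t y)⁻¹ * y⁻¹ ∈ K := hKn.conj_mem _ (inv_mem h1) y
    have h4 := mul_mem h3 (hinv y)
    simpa [mul_assoc] using h4
  let π3 := QuotientGroup.mk' G3
  have hcl : commutator (M ⧸ G3) ≤ center (M ⧸ G3) := by
    intro q hq
    have hmap : D.map π3 = commutator (M ⧸ G3) := by
      show (_root_.commutator M).map π3 = _
      rw [_root_.commutator_def, _root_.commutator_def, Subgroup.map_commutator,
        Subgroup.map_top_of_surjective π3 (QuotientGroup.mk'_surjective G3)]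
    rw [← hmap] at hq
    obtain ⟨d, hd, rfl⟩ := hq
    refine mem_center_iff.mpr fun g => ?_
    obtain ⟨g, rfl⟩ := QuotientGroup.mk'_surjective G3 g
    have h : π3 ⁅d, g⁆ = 1 :=
      (QuotientGroup.eq_one_iff _).mpr (commutator_mem_commutator hd (mem_top g))
    rw [map_commutatorElement, commutatorElement_eq_one_iff_mul_comm] at h
    exact h.symm
  -- `t` fixes commutators modulo `G3`
  have hfix3 : ∀ a b : M, π3 (t ⁅a, b⁆) = π3 ⁅a, b⁆ := by
    intro a b
    have hta : ∀ a : M, ∃ d ∈ D, t a = d * a⁻¹ := fun a => ⟨t a * a, hinvD a, by group⟩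
    obtain ⟨d, hd, ha⟩ := hta a
    obtain ⟨e, he, hb⟩ := hta b
    have hz : ∀ d ∈ D, ∀ q : M ⧸ G3, ⁅π3 d, q⁆ = 1 ∧ ⁅q, π3 d⁆ = 1 := fun d hd q => by
      have hc : π3 d ∈ center (M ⧸ G3) := hcl (by
        rw [_root_.commutator_def, ← Subgroup.map_top_of_surjective π3 (QuotientGroup.mk'_surjective G3),
          ← Subgroup.map_commutator]
        exact mem_map_of_mem π3 hd)
      exact ⟨commutatorElement_eq_one_iff_mul_comm.mpr (mem_center_iff.mp hc q).symm,
        commutatorElement_eq_one_iff_mul_comm.mpr (mem_center_iff.mp hc q)⟩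
    rw [map_commutatorElement t, ha, hb, map_commutatorElement, map_commutatorElement, map_mul, map_mul,
      map_inv, map_inv, PGroup.comm_mul_left hcl, PGroup.comm_mul_right hcl, PGroup.comm_mul_right hcl,
      (hz d hd _).1, (hz d hd _).1, (hz e he _).2, PGroup.comm_inv_left hcl, PGroup.comm_inv_right hcl,
      inv_inv, one_mul, one_mul, one_mul]
  set C := MonoidHom.eqLocus (t : M →* M) (MonoidHom.id M) with hCdef
  have hmemC : ∀ x, x ∈ C ↔ t x = x := fun x => Iff.rfl
  have hDC : ∀ x ∈ D, ∃ y ∈ C, π3 y = π3 x := by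
    intro x hx
    have hle : D ≤ MonoidHom.eqLocus (π3.comp (t : M →* M)) π3 := by
      show _root_.commutator M ≤ _; rw [_root_.commutator_def, commutator_le]
      exact fun a _ b _ => hfix3 a b
    have h1 : π3 (t x) = π3 x := hle hx
    obtain ⟨n, hn, hfixed⟩ := exists_fixed_mul hp2 hM t ht G3 (x := x) (by
      rw [← QuotientGroup.eq_one_iff, ← QuotientGroup.mk'_apply, map_mul, map_inv]
      show (π3 x)⁻¹ * π3 (t x) = 1
      rw [h1, inv_mul_cancel])
    refine ⟨x * n, hfixed, ?_⟩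
    rw [map_mul, show π3 n = 1 from (QuotientGroup.eq_one_iff n).mpr hn, mul_one]
  have hCcyc : IsCyclic C := by
    refine LAE65.isCyclic_of_unique_order_p hp2 (hM.to_subgroup C) fun x y hx hx1 hy => ?_
    by_contra hyx
    obtain ⟨z, hz, hzp, hzc⟩ : ∃ z : C, z ∉ Subgroup.zpowers x ∧ z ^ p = 1 ∧ Commute z x :=
      exists_commuting_of_not_mem_zpowers (hM.to_subgroup C) hx hx1 hy hyx
    set E := closure ({(x : M), (z : M)} : Set M) with hE
    have hEc : IsMulCommutative E := OddLocal43.isMulCommutative_closure_of_comm (by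
      have hzc' : (z : M) * x = x * z := congrArg Subtype.val hzc.eq
      rintro a (rfl | rfl) b (rfl | rfl) <;> first | rfl | exact hzc' | exact hzc'.symm)
    have hEe : ∀ a ∈ E, a ^ p = 1 := by
      intro a ha
      induction ha using closure_induction with
      | mem a ha =>
        rcases ha with rfl | rfl
        · exact congrArg Subtype.val hx
        · exact congrArg Subtype.val hzp
      | one => exact one_pow p
      | mul a b ha hb iha ihb =>
        rw [(show Commute a b from congrArg Subtype.val (mul_comm' (⟨a, ha⟩ : E) ⟨b, hb⟩)).mul_pow,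
          iha, ihb, one_mul]
      | inv a ha iha => rw [inv_pow, iha, inv_one]
    have hEf : ∀ a ∈ E, t a = a := fun a ha => by
      have : E ≤ C := (closure_le C).mpr (by rintro a (rfl | rfl) <;> exact SetLike.coe_mem _)
      exact this ha
    have h1 := hcyc E hEc hEe hEf
    have hlt : Subgroup.zpowers (x : M) < E := by
      refine lt_of_le_of_ne ((zpowers_le).mpr (subset_closure (Set.mem_insert _ _))) fun h => hz ?_
      have : (z : M) ∈ Subgroup.zpowers (x : M) :=
        h ▸ subset_closure (Set.mem_insert_of_mem _ rfl)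
      obtain ⟨k, hk⟩ := mem_zpowers_iff.mp this
      exact mem_zpowers_iff.mpr ⟨k, Subtype.ext (by simpa using hk)⟩
    have h2 := OddLocal43.mul_le_card_of_lt hp.out (hM.to_subgroup E) hlt
    rw [Nat.card_zpowers, Subgroup.orderOf_coe, orderOf_eq_prime hx hx1] at h2
    have := hp.out.two_le
    nlinarith
  obtain ⟨⟨c0, hc0C⟩, hc0⟩ := hCcyc.exists_generator
  -- `D` modulo `G3` is cyclic
  obtain ⟨c, hcD, hcgen⟩ : ∃ c ∈ D.map π3, D.map π3 ≤ zpowers c := by
    have h1 : ∀ x ∈ D, π3 x ∈ zpowers (π3 c0) := fun x hx => by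
      obtain ⟨y, hy, hyx⟩ := hDC x hx
      obtain ⟨k, hk⟩ := mem_zpowers_iff.mp (hc0 ⟨y, hy⟩)
      refine mem_zpowers_iff.mpr ⟨k, ?_⟩
      rw [← map_zpow, ← hyx]
      exact congrArg π3 (congrArg Subtype.val hk)
    have hle : D.map π3 ≤ zpowers (π3 c0) := by rintro _ ⟨x, hx, rfl⟩; exact h1 x hx
    haveI : IsCyclic (D.map π3) := Subgroup.isCyclic_of_le hle
    obtain ⟨⟨c, hc⟩, hgen⟩ := IsCyclic.exists_generator (α := D.map π3)
    refine ⟨c, hc, fun y hy => ?_⟩
    obtain ⟨k, hk⟩ := mem_zpowers_iff.mp (hgen ⟨y, hy⟩)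
    exact mem_zpowers_iff.mpr ⟨k, by simpa using congrArg Subtype.val hk⟩
  have hM3 : IsPGroup p (M ⧸ G3) := hM.to_quotient G3
  have hcomm_mem : ∀ a b : M, ⁅π3 a, π3 b⁆ ∈ zpowers c := fun a b => by
    rw [← map_commutatorElement]
    exact hcgen (mem_map_of_mem π3 (PGroup.commutatorElement_mem_commutator a b))
  by_cases hD1 : D = ⊥
  · -- abelian case
    have hab : ∀ a b : M, a * b = b * a := fun a b => by
      rw [← commutatorElement_eq_one_iff_mul_comm, ← Subgroup.mem_bot, ← hD1]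
      exact PGroup.commutatorElement_mem_commutator a b
    let f : M →* M := MonoidHom.mk' (fun x => x ^ p) fun a b => Commute.mul_pow (hab a b) p
    have hle : f.range ≤ K := by rintro _ ⟨x, rfl⟩; exact hKp x
    refine (Nat.le_of_dvd (Nat.pos_of_ne_zero index_ne_zero_of_finite) (index_dvd_of_le hle)).trans ?_
    have h1 := card_mul_index f.range
    have h2 := card_mul_index f.ker
    rw [index_ker] at h2
    have h3 : f.range.index = Nat.card f.ker := Nat.eq_of_mul_eq_mul_left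
      (Nat.card_pos (α := f.range)) (by rw [h1, ← h2, mul_comm])
    rw [h3]
    exact hr f.ker ⟨⟨fun a b => Subtype.ext (hab a b)⟩⟩ fun a ha => ha
  -- a generating commutator
  have hDG3 : ¬ D ≤ G3 := fun h => hD1
    (Coprime.eq_bot_of_le_commutator (G := M) ⊤
      (Group.nilpotent_of_mulEquiv (Subgroup.topEquiv (G := M)).symm) le_top h)
  have hc1 : c ≠ 1 := fun h => hDG3 fun x hx => by
    have := hcgen (mem_map_of_mem π3 hx)
    rw [h, zpowers_one_eq_bot, Subgroup.mem_bot] at this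
    exact (QuotientGroup.eq_one_iff x).mp this
  have hcp : c ∉ zpowers (c ^ p) := by
    intro h
    obtain ⟨k, hk⟩ := IsPGroup.iff_orderOf.mp hM3 c
    rcases k with _ | k
    · exact hc1 (orderOf_eq_one_iff.mp (by simpa using hk))
    · have h1 := Subgroup.orderOf_dvd_natCard _ h
      rw [Nat.card_zpowers, orderOf_pow_of_dvd hp.out.ne_zero (hk ▸ dvd_pow_self p k.succ_ne_zero),
        hk, pow_succ, Nat.mul_div_cancel _ hp.out.pos] at h1
      have h2 := Nat.le_of_dvd (pow_pos hp.out.pos _) h1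
      have := hp.out.two_le
      nlinarith [pow_pos hp.out.pos k]
  obtain ⟨u, v, hz⟩ : ∃ u v : M, ⁅π3 u, π3 v⁆ ∉ zpowers (c ^ p) := by
    by_contra hcon
    push Not at hcon
    apply hcp
    have hle : D ≤ (zpowers (c ^ p)).comap π3 := by
      show _root_.commutator M ≤ _; rw [_root_.commutator_def, commutator_le]
      exact fun a _ b _ => by rw [mem_comap, map_commutatorElement]; exact hcon a b
    obtain ⟨x, hx, hxc⟩ := hcD
    have h := hle hx
    rw [mem_comap, hxc] at h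
    exact h
  set z := ⁅π3 u, π3 v⁆ with hzdef
  have hgenz : ∀ a b : M, ⁅π3 a, π3 b⁆ ∈ zpowers z := fun a b =>
    (zpowers_le.mpr (zpowers_eq_of_not_pow hM3 (hcomm_mem u v) hz)) (hcomm_mem a b)
  -- the radical
  set Zp := zpowers (c ^ p) with hZp
  have hZpc : Zp ≤ center (M ⧸ G3) := by
    rw [hZp, zpowers_le]
    refine pow_mem (hcl ?_) p
    rw [_root_.commutator_def, ← Subgroup.map_top_of_surjective π3 (QuotientGroup.mk'_surjective G3),
      ← Subgroup.map_commutator]
    exact hcD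
  let R0 : Subgroup M :=
    { carrier := {x | ∀ y, ⁅π3 x, π3 y⁆ ∈ Zp}
      one_mem' := fun y => by simp
      mul_mem' := fun {a b} ha hb y => by
        rw [map_mul, PGroup.comm_mul_left hcl]; exact mul_mem (ha y) (hb y)
      inv_mem' := fun {a} ha y => by
        rw [map_inv, PGroup.comm_inv_left hcl]; exact inv_mem (ha y) }
  have hR0n : R0.Normal := ⟨fun x hx g y => by
    rw [map_mul, map_mul, PGroup.comm_mul_left hcl, PGroup.comm_mul_left hcl, map_inv,
      PGroup.comm_inv_left hcl, (PGroup.commute_comm hcl (π3 g) (π3 y) _).eq, mul_inv_cancel_right]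
    exact hx y⟩
  have hR0 : R0 ≤ K := by
    refine hmin R0 hR0n (fun φ _ x hx y => ?_) fun h => hz ((h ▸ mem_top u : u ∈ R0) v)
    let Φ : M ⧸ G3 →* M ⧸ G3 := QuotientGroup.map G3 G3 (φ : M →* M)
      (Subgroup.characteristic_iff_le_comap.mp hG3c φ)
    have hΦ : ∀ m, Φ (π3 m) = π3 (φ m) := fun m => rfl
    have h1 : ⁅π3 (φ x), π3 y⁆ = Φ ⁅π3 x, π3 (φ.symm y)⁆ := by
      rw [map_commutatorElement, hΦ, hΦ, MulEquiv.apply_symm_apply]
    rw [h1]
    obtain ⟨k, hk⟩ := mem_zpowers_iff.mp (hx (φ.symm y))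
    obtain ⟨d, hd, hdc⟩ := hcD
    rw [← hk, map_zpow, map_pow, ← hdc, hΦ]
    obtain ⟨j, hj⟩ := mem_zpowers_iff.mp (hcgen (mem_map_of_mem π3
      ((Subgroup.characteristic_iff_le_comap.mp (inferInstance : D.Characteristic) φ) hd)))
    refine zpow_mem (mem_zpowers_iff.mpr ⟨j, ?_⟩) k
    show (c ^ p) ^ j = π3 (φ d) ^ p
    rw [show π3 (φ d) = c ^ j from hj.symm, ← zpow_natCast (c ^ j) p, ← _root_.zpow_mul, mul_comm, _root_.zpow_mul, zpow_natCast]
  -- decomposition
  let W : Subgroup M := (centralizer ({π3 u, π3 v} : Set (M ⧸ G3))).comap π3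
  have hW : ∀ x, x ∈ W → ⁅π3 x, π3 u⁆ = 1 ∧ ⁅π3 x, π3 v⁆ = 1 := fun x hx =>
    ⟨commutatorElement_eq_one_iff_mul_comm.mpr
        (mem_centralizer_iff.mp hx _ (Set.mem_insert _ _)).symm,
      commutatorElement_eq_one_iff_mul_comm.mpr
        (mem_centralizer_iff.mp hx _ (Set.mem_insert_of_mem _ rfl)).symm⟩
  have hdec : ∀ x : M, ∃ a b : ℤ, x * u ^ a * v ^ b ∈ W := by
    intro x
    obtain ⟨i, hi⟩ := mem_zpowers_iff.mp (hgenz x v)
    obtain ⟨j, hj⟩ := mem_zpowers_iff.mp (hgenz x u)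
    refine ⟨-i, j, ?_⟩
    show π3 _ ∈ centralizer _
    rw [mem_centralizer_iff]
    rintro q (rfl | rfl) <;> refine (commutatorElement_eq_one_iff_mul_comm.mp ?_).symm <;>
      simp only [map_mul, map_zpow, PGroup.comm_mul_left hcl, comm_zpow_left hcl, commutatorElement_self,
        one_zpow, mul_one]
    · rw [← hj, ← commutatorElement_inv (π3 u) (π3 v), ← hzdef, inv_zpow, mul_inv_cancel]
    · rw [← hi, ← hzdef, ← zpow_add, add_neg_cancel, zpow_zero]
  by_cases hB : ∀ w ∈ W, ∀ w' ∈ W, ⁅π3 w, π3 w'⁆ ∈ Zp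
  · -- the top section is generated by the images of `u` and `v`
    have hWR : W ≤ R0 := fun w hw y => by
      obtain ⟨a, b, hy⟩ := hdec y
      have e : y = y * u ^ a * v ^ b * v ^ (-b) * u ^ (-a) := by group
      rw [e, map_mul, map_mul, map_zpow, map_zpow, PGroup.comm_mul_right hcl,
        PGroup.comm_mul_right hcl]
      refine mul_mem (mul_mem (hB w hw _ hy) ?_) ?_ <;>
        rw [← commutatorElement_inv, comm_zpow_left hcl, ← commutatorElement_inv (π3 w)]
      · rw [(hW w hw).2]; simp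
      · rw [(hW w hw).1]; simp
    let g : Fin p × Fin p → M ⧸ K := fun ij => ((u ^ (ij.1 : ℕ) * v ^ (ij.2 : ℕ) : M) : M ⧸ K)
    have hKab : ∀ a b : M ⧸ K, a * b = b * a := fun a b => by
      obtain ⟨a, rfl⟩ := QuotientGroup.mk'_surjective K a
      obtain ⟨b, rfl⟩ := QuotientGroup.mk'_surjective K b
      rw [← commutatorElement_eq_one_iff_mul_comm, ← map_commutatorElement]
      exact (QuotientGroup.eq_one_iff _).mpr (hDK (PGroup.commutatorElement_mem_commutator a b))
    have hred : ∀ (q : M) (i : ℤ), ∃ k : Fin p,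
        ((q ^ i : M) : M ⧸ K) = ((q ^ (k : ℕ) : M) : M ⧸ K) := by
      intro q i
      have hp0 : (p : ℤ) ≠ 0 := by exact_mod_cast hp.out.ne_zero
      refine ⟨⟨(i % (p : ℤ)).toNat, ?_⟩, ?_⟩
      · have h1 := Int.emod_lt_of_pos i (by exact_mod_cast hp.out.pos : (0 : ℤ) < p)
        have h2 := Int.emod_nonneg i hp0
        omega
      · rw [QuotientGroup.mk_zpow, QuotientGroup.mk_pow, ← zpow_natCast,
          Int.toNat_of_nonneg (Int.emod_nonneg i hp0)]
        have h1 : ((q : M ⧸ K)) ^ (p : ℤ) = 1 := by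
          rw [zpow_natCast, ← QuotientGroup.mk_pow]; exact (QuotientGroup.eq_one_iff _).mpr (hKp q)
        conv_lhs => rw [← Int.emod_add_mul_ediv i p, zpow_add, _root_.zpow_mul, h1, one_zpow, mul_one]
    have hsurj : Function.Surjective g := by
      intro q
      obtain ⟨x, rfl⟩ := QuotientGroup.mk'_surjective K q
      obtain ⟨a, b, hx⟩ := hdec x
      obtain ⟨i, hi⟩ := hred u (-a)
      obtain ⟨j, hj⟩ := hred v (-b)
      refine ⟨(i, j), ?_⟩
      show ((u ^ (i : ℕ) * v ^ (j : ℕ) : M) : M ⧸ K) = (x : M ⧸ K)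
      rw [QuotientGroup.mk_mul, ← hi, ← hj, hKab]
      calc ((v ^ (-b) : M) : M ⧸ K) * ((u ^ (-a) : M) : M ⧸ K)
          = ((x * u ^ a * v ^ b : M) : M ⧸ K) * ((v ^ (-b) : M) : M ⧸ K) * ((u ^ (-a) : M) : M ⧸ K) := by
            rw [(QuotientGroup.eq_one_iff _).mpr (hR0 (hWR hx)), one_mul]
        _ = (x : M ⧸ K) := by
            rw [← QuotientGroup.mk_mul, ← QuotientGroup.mk_mul]; congr 1; group
    have := Nat.card_le_card_of_surjective g hsurj
    rw [Nat.card_prod, Nat.card_fin] at this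
    rw [index_eq_card, pow_two]
    exact this
  -- a second hyperbolic pair: class two
  exfalso
  push Not at hB
  obtain ⟨w, hw, w', hw', hz'⟩ := hB
  let π4 := QuotientGroup.mk' G4
  have h34 : ∀ g ∈ G3, ∀ q : M ⧸ G4, π4 g * q = q * π4 g := by
    intro g hg q
    obtain ⟨x, rfl⟩ := QuotientGroup.mk'_surjective G4 q
    have h : π4 ⁅g, x⁆ = 1 :=
      (QuotientGroup.eq_one_iff _).mpr (commutator_mem_commutator hg (mem_top x))
    rwa [map_commutatorElement, commutatorElement_eq_one_iff_mul_comm] at h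
  -- a commutator centralizes what is orthogonal to its entries
  have hort : ∀ a b x : M, ⁅π3 x, π3 a⁆ = 1 → ⁅π3 x, π3 b⁆ = 1 →
      Commute (π4 ⁅a, b⁆) (π4 x) := by
    intro a b x ha hb
    have key : ∀ a : M, ⁅π3 x, π3 a⁆ = 1 → π4 x * π4 a * (π4 x)⁻¹ = π4 ⁅x, a⁆ * π4 a ∧
        ∀ q, π4 ⁅x, a⁆ * q = q * π4 ⁅x, a⁆ := by
      intro a ha
      refine ⟨?_, h34 _ ((QuotientGroup.eq_one_iff _).mp (by
        show π3 ⁅x, a⁆ = 1
        rw [map_commutatorElement]; exact ha))⟩
      rw [← map_inv, ← map_mul, ← map_mul, ← map_mul]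
      congr 1
      simp [commutatorElement_def, mul_assoc]
    obtain ⟨ha1, ha2⟩ := key a ha
    obtain ⟨hb1, hb2⟩ := key b hb
    refine (mul_inv_eq_iff_eq_mul.mp ?_).symm
    rw [map_commutatorElement]
    have e : π4 x * ⁅π4 a, π4 b⁆ * (π4 x)⁻¹ =
        ⁅π4 x * π4 a * (π4 x)⁻¹, π4 x * π4 b * (π4 x)⁻¹⁆ := by
      simp [commutatorElement_def, mul_assoc]
    rw [e, ha1, hb1]
    generalize π4 ⁅x, a⁆ = r at ha2 ⊢
    generalize π4 ⁅x, b⁆ = s at hb2 ⊢
    have key1 : ∀ r : M ⧸ G4, (∀ q, r * q = q * r) → ∀ a q : M ⧸ G4, ⁅r * a, q⁆ = ⁅a, q⁆ := by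
      intro r hr a q
      calc ⁅r * a, q⁆ = r * (a * q * a⁻¹) * r⁻¹ * q⁻¹ := by simp [commutatorElement_def, mul_assoc]
        _ = ⁅a, q⁆ := by rw [hr, mul_inv_cancel_right, commutatorElement_def]
    rw [key1 r ha2, ← commutatorElement_inv, key1 s hb2, commutatorElement_inv]
  have hz'gen : zpowers z ≤ zpowers ⁅π3 w, π3 w'⁆ :=
    (zpowers_le.mpr (hcgen (by
      obtain ⟨d, hd, hdc⟩ := hcD
      rw [hzdef, ← map_commutatorElement]
      exact mem_map_of_mem π3 (PGroup.commutatorElement_mem_commutator u v)))).trans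
    (zpowers_le.mpr (zpowers_eq_of_not_pow hM3 (hcomm_mem w w') hz'))
  have hDgen : ∀ e : M, zpowers c ≤ zpowers (π3 e) → ∀ d ∈ D, ∀ q, Commute (π4 e) q →
      Commute (π4 d) q := by
    intro e he d hd q hq
    obtain ⟨k, hk⟩ := mem_zpowers_iff.mp (he (hcgen (mem_map_of_mem π3 hd)))
    have h1 : (e ^ k)⁻¹ * d ∈ G3 := by
      rw [← QuotientGroup.eq_one_iff, ← QuotientGroup.mk'_apply, map_mul, map_inv, map_zpow]
      show (π3 e ^ k)⁻¹ * π3 d = 1
      rw [hk, inv_mul_cancel]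
    rw [show d = e ^ k * ((e ^ k)⁻¹ * d) by group, map_mul, map_zpow]
    exact (hq.zpow_left k).mul_left (h34 _ h1 q)
  have hc_z : zpowers c ≤ zpowers (π3 ⁅u, v⁆) := by
    rw [map_commutatorElement, ← hzdef]
    exact zpowers_le.mpr (zpowers_eq_of_not_pow hM3 (hcomm_mem u v) hz)
  have hc_z' : zpowers c ≤ zpowers (π3 ⁅w, w'⁆) := by
    rw [map_commutatorElement]
    exact zpowers_le.mpr (zpowers_eq_of_not_pow hM3 (hcomm_mem w w') hz')
  have hG34 : G3 ≤ G4 := by
    refine commutator_le.mpr fun d hd x _ => ?_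
    rw [← QuotientGroup.eq_one_iff, ← QuotientGroup.mk'_apply, map_commutatorElement,
      commutatorElement_eq_one_iff_mul_comm]
    show Commute (π4 d) (π4 x)
    have hu' : Commute (π4 d) (π4 u) := hDgen _ hc_z' d hd _ (hort w w' u
      (by rw [← commutatorElement_inv, (hW w hw).1, inv_one])
      (by rw [← commutatorElement_inv, (hW w' hw').1, inv_one]))
    have hv' : Commute (π4 d) (π4 v) := hDgen _ hc_z' d hd _ (hort w w' v
      (by rw [← commutatorElement_inv, (hW w hw).2, inv_one])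
      (by rw [← commutatorElement_inv, (hW w' hw').2, inv_one]))
    obtain ⟨a, b, hx⟩ := hdec x
    have hw'' : Commute (π4 d) (π4 (x * u ^ a * v ^ b)) :=
      hDgen _ hc_z d hd _ (hort u v _ (hW _ hx).1 (hW _ hx).2)
    rw [show x = x * u ^ a * v ^ b * v ^ (-b) * u ^ (-a) by group, map_mul, map_mul, map_zpow, map_zpow]
    exact (hw''.mul_right (hv'.zpow_right _)).mul_right (hu'.zpow_right _)
  have hG30 : G3 = ⊥ := Coprime.eq_bot_of_le_commutator (G := M) ⊤
    (Group.nilpotent_of_mulEquiv (Subgroup.topEquiv (G := M)).symm) le_top hG34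
  have hcl' : commutator M ≤ center M := fun d hd => mem_center_iff.mpr fun g => by
    rw [eq_comm, ← commutatorElement_eq_one_iff_mul_comm, ← Subgroup.mem_bot, ← hG30]
    exact commutator_mem_commutator hd (mem_top g)
  haveI : Zp.Normal := ⟨fun x hx g => by
    rwa [mem_center_iff.mp (hZpc hx) g, mul_inv_cancel_right]⟩
  set σ := QuotientGroup.mk' Zp
  set A := zpowers (σ c) with hA
  have hσ : ∀ x y : M, σ ⁅π3 x, π3 y⁆ ∈ A := fun x y => by
    obtain ⟨k, hk⟩ := mem_zpowers_iff.mp (hcomm_mem x y)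
    exact mem_zpowers_iff.mpr ⟨k, by rw [← map_zpow, hk]⟩
  let β : M → (M →* A) := fun y => MonoidHom.mk' (fun x => ⟨σ ⁅π3 x, π3 y⁆, hσ x y⟩) fun a b =>
    Subtype.ext (by
      show σ ⁅π3 (a * b), π3 y⁆ = σ ⁅π3 a, π3 y⁆ * σ ⁅π3 b, π3 y⁆
      rw [map_mul π3, PGroup.comm_mul_left hcl, map_mul])
  let F : M →* A × A × A × A := (β v).prod ((β u).prod ((β w').prod (β w)))
  have hF : Function.Surjective F := by
    have hsurj1 : ∀ a b : M, zpowers c ≤ zpowers ⁅π3 a, π3 b⁆ → ∀ q : A,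
        ∃ k : ℤ, β b (a ^ k) = q := by
      intro a b hab q
      obtain ⟨i, hi⟩ := mem_zpowers_iff.mp q.2
      obtain ⟨k, hk⟩ := mem_zpowers_iff.mp (hab (mem_zpowers c))
      refine ⟨k * i, Subtype.ext ?_⟩
      show σ ⁅π3 (a ^ (k * i)), π3 b⁆ = _
      rw [map_zpow, comm_zpow_left hcl, _root_.zpow_mul, hk, map_zpow, hi]
    have hflip : ∀ a b : M, zpowers c ≤ zpowers ⁅π3 a, π3 b⁆ →
        zpowers c ≤ zpowers ⁅π3 b, π3 a⁆ := fun a b h => by
      rw [← commutatorElement_inv (π3 a) (π3 b), zpowers_inv]; exact h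
    rw [map_commutatorElement] at hc_z hc_z'
    rintro ⟨q1, q2, q3, q4⟩
    obtain ⟨k1, h1⟩ := hsurj1 u v hc_z q1
    obtain ⟨k2, h2⟩ := hsurj1 v u (hflip u v hc_z) q2
    obtain ⟨k3, h3⟩ := hsurj1 w w' hc_z' q3
    obtain ⟨k4, h4⟩ := hsurj1 w' w (hflip w w' hc_z') q4
    refine ⟨u ^ k1 * v ^ k2 * w ^ k3 * w' ^ k4, ?_⟩
    have e0 : ∀ a b : M, ⁅π3 a, π3 b⁆ = 1 → ∀ k : ℤ, β b (a ^ k) = 1 := fun a b h k => Subtype.ext (by
      show σ ⁅π3 (a ^ k), π3 b⁆ = 1
      rw [map_zpow, comm_zpow_left hcl, h, one_zpow, map_one])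
    have o : ∀ a b : M, ⁅π3 a, π3 b⁆ = 1 → ⁅π3 b, π3 a⁆ = 1 := fun a b h => by
      rw [← commutatorElement_inv, h, inv_one]
    refine Prod.ext ?_ (Prod.ext ?_ (Prod.ext ?_ ?_)) <;>
      simp only [F, MonoidHom.prod_apply, map_mul, Prod.fst_mul, Prod.snd_mul]
    · rw [h1, e0 v v (commutatorElement_self _), e0 w v (hW w hw).2, e0 w' v (hW w' hw').2, mul_one,
        mul_one, mul_one]
    · rw [h2, e0 u u (commutatorElement_self _), e0 w u (hW w hw).1, e0 w' u (hW w' hw').1, one_mul,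
        mul_one, mul_one]
    · rw [h3, e0 u w' (o _ _ (hW w' hw').1), e0 v w' (o _ _ (hW w' hw').2),
        e0 w' w' (commutatorElement_self _), one_mul, one_mul, mul_one]
    · rw [h4, e0 u w (o _ _ (hW w hw).1), e0 v w (o _ _ (hW w hw).2),
        e0 w w (commutatorElement_self _), one_mul, one_mul, one_mul]
  have hAp : ∀ a : A, a ^ p = 1 := by
    intro a
    obtain ⟨i, hi⟩ := mem_zpowers_iff.mp a.2
    refine Subtype.ext ?_
    rw [Subgroup.coe_pow, ← hi, ← zpow_natCast, ← _root_.zpow_mul, mul_comm, _root_.zpow_mul,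
      zpow_natCast, ← map_pow, show σ (c ^ p) = 1 from (QuotientGroup.eq_one_iff _).mpr (mem_zpowers _),
      one_zpow, Subgroup.coe_one]
  have hAcard : p ≤ Nat.card A := by
    haveI : Nontrivial A := ⟨⟨σ c, mem_zpowers _⟩, 1, fun h => hcp
      ((QuotientGroup.eq_one_iff c).mp (congrArg Subtype.val h))⟩
    obtain ⟨k, hk⟩ := IsPGroup.iff_card.mp (show IsPGroup p A from fun a => ⟨1, by rw [pow_one]; exact hAp a⟩)
    rcases k with _ | k
    · rw [pow_zero] at hk
      exact absurd hk (Finite.one_lt_card.ne')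
    · rw [hk]; exact Nat.le_of_dvd (pow_pos hp.out.pos _) (dvd_pow_self p k.succ_ne_zero)
  -- Baer's abelian group
  obtain ⟨k, hk⟩ : ∃ k, ∀ a b : M, ⁅a, b⁆ ^ (2 * k) = ⁅a, b⁆ := by
    refine ⟨(Nat.card M + 1) / 2, fun a b => ?_⟩
    have hodd : Odd (Nat.card M) := by
      obtain ⟨n, hn⟩ := IsPGroup.iff_card.mp hM
      rw [hn]; exact (hp.out.odd_of_ne_two hp2).pow
    obtain ⟨r, hr'⟩ := hodd
    rw [show 2 * ((Nat.card M + 1) / 2) = Nat.card M + 1 by omega, pow_succ, pow_card_eq_one', one_mul]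
  letI := OddLocal44.baerCommGroup hcl' k hk
  haveI : Finite (OddLocal44.BaerGroup M) :=
    Finite.of_equiv M ⟨OddLocal44.BaerGroup.mk, OddLocal44.BaerGroup.val, fun _ => rfl, fun _ => rfl⟩
  have hmul : ∀ a b : OddLocal44.BaerGroup M, (a * b).val = a.val * b.val * ⁅b.val, a.val⁆ ^ k :=
    fun _ _ => rfl
  have hFc : ∀ a b : M, F ⁅a, b⁆ = 1 := fun a b => by
    haveI : IsMulCommutative A := inferInstance
    rw [map_commutatorElement, commutatorElement_eq_one_iff_mul_comm]
    exact Prod.ext (mul_comm' _ _) (Prod.ext (mul_comm' _ _) (Prod.ext (mul_comm' _ _) (mul_comm' _ _)))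
  let F' : OddLocal44.BaerGroup M →* A × A × A × A := MonoidHom.mk' (fun a => F a.val) fun a b => by
    rw [hmul, map_mul, map_mul, map_pow, hFc, one_pow, mul_one]
  have hpow : ∀ (a : OddLocal44.BaerGroup M) (n : ℕ), (a ^ n).val = a.val ^ n := by
    intro a n
    induction n with
    | zero => rw [pow_zero, pow_zero]; rfl
    | succ n ih =>
      rw [pow_succ, hmul, ih, pow_succ, show ⁅a.val, a.val ^ n⁆ = 1 from
        commutatorElement_eq_one_iff_mul_comm.mpr (Commute.pow_right rfl n).eq, one_pow, mul_one]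
  let f : OddLocal44.BaerGroup M →* OddLocal44.BaerGroup M := powMonoidHom p
  have hrange : f.range ≤ F'.ker := by
    rintro _ ⟨a, rfl⟩
    show F' (a ^ p) = 1
    rw [map_pow]
    exact Prod.ext (hAp _) (Prod.ext (hAp _) (Prod.ext (hAp _) (hAp _)))
  have h1 : F'.ker.index = Nat.card (A × A × A × A) := by
    rw [index_ker, MonoidHom.range_eq_top.mpr fun q => by
      obtain ⟨x, hx⟩ := hF q; exact ⟨⟨x⟩, hx⟩, card_top]
  have h2 : f.range.index = Nat.card f.ker := by
    refine Nat.eq_of_mul_eq_mul_left (Nat.card_pos (α := f.range)) ?_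
    rw [card_mul_index, ← card_mul_index f.ker, index_ker, mul_comm]
  have h3 : Nat.card f.ker ≤ p ^ 3 := by
    refine le_trans (le_of_eq (Nat.card_congr ⟨fun a => (⟨a.1.val, ?_⟩ : {x : M // x ^ p = 1}),
      fun x => ⟨⟨x.1⟩, ?_⟩, fun a => rfl, fun x => rfl⟩)) (card_pow_eq_one_le hp2 hcl' hr)
    · rw [← hpow, show a.1 ^ p = 1 from a.2]; rfl
    · exact OddLocal44.BaerGroup.ext' (by
        show ((⟨x.1⟩ : OddLocal44.BaerGroup M) ^ p).val = _
        rw [hpow]; exact x.2)
  have h4 := Nat.le_of_dvd (Nat.pos_of_ne_zero index_ne_zero_of_finite) (index_dvd_of_le hrange)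
  rw [h1, h2] at h4
  have h5 : p ^ 4 ≤ Nat.card (A × A × A × A) := by
    simp only [Nat.card_prod]
    rw [show p ^ 4 = p * (p * (p * p)) by ring]
    exact Nat.mul_le_mul hAcard (Nat.mul_le_mul hAcard (Nat.mul_le_mul hAcard hAcard))
  have := Nat.pow_lt_pow_right hp.out.one_lt (show 3 < 4 by norm_num)
  omega

end Cfsg.Agent.ClassTech.RankTwoChief
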