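import Cfsg.Agent.ClassTech.RankTwoChief.Small
import Cfsg.Agent.Lib.Coprime.Action
import Cfsg.Agent.Lib.PGroup.Basic

/-!
The two-dimensional representation on a rank two normal `p`-subgroup, with the fixed points of `-1`.
-/

set_option autoImplicit false

namespace Cfsg.Agent.ClassTech.RankTwoChief

open Subgroup
open scoped commutatorElement

variable {p : ℕ} [hp : Fact p.Prime]

/-- The automorphisms of a small elementary group, linearly; `-1` comes from inversion of a group of
order `p ^ 2` only. -/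
theorem exists_injective_to_GL_two_neg (hp2 : p ≠ 2) {V : Type*} [Group V] [Finite V]
    (hc : ∀ a b : V, a * b = b * a) (he : ∀ v : V, v ^ p = 1) (hcard : Nat.card V ≤ p ^ 2) :
    ∃ f : MulAut V →* GL (Fin 2) (ZMod p), Function.Injective f ∧
      ∀ σ, ((f σ : GL (Fin 2) (ZMod p)) : Matrix (Fin 2) (Fin 2) (ZMod p)) = -1 →
        (∀ v, σ v = v⁻¹) ∧ Nat.card V = p ^ 2 := by
  letI : CommGroup V := { ‹Group V› with mul_comm := hc }
  letI : Module (ZMod p) (Additive V) :=
    AddCommGroup.zmodModule (n := p) (G := Additive V) fun v => he v.toMul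
  haveI : Module.Finite (ZMod p) (Additive V) := Module.Finite.of_finite
  set k := Module.finrank (ZMod p) (Additive V) with hk
  have hcardV : Nat.card V = p ^ k := by
    have h := @Module.natCard_eq_pow_finrank (ZMod p) (Additive V) _ _ _ ‹_›
    rw [Nat.card_zmod] at h
    exact h
  have hk2 : k ≤ 2 := (Nat.pow_le_pow_iff_right hp.out.one_lt).mp (hcardV ▸ hcard)
  obtain ⟨l, hl⟩ : ∃ l, k + l = 2 := ⟨2 - k, by omega⟩
  let e : Fin k ⊕ Fin l ≃ Fin 2 := finSumFinEquiv.trans (finCongr hl)
  let b : Module.Basis (Fin k) (ZMod p) (Additive V) := @Module.finBasis (ZMod p) (Additive V) _ _ _ (Module.Free.of_divisionRing _ _) _ ‹_›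
  let pad : Matrix (Fin k) (Fin k) (ZMod p) →* Matrix (Fin 2) (Fin 2) (ZMod p) :=
    { toFun := fun X => Matrix.reindex e e (Matrix.fromBlocks X 0 0 1)
      map_one' := by simp [Matrix.fromBlocks_one]
      map_mul' := fun X Y => by simp [Matrix.fromBlocks_multiply] }
  let toMat : MulAut V →* Matrix (Fin k) (Fin k) (ZMod p) :=
    { toFun := fun σ => LinearMap.toMatrixAlgEquiv b
        ((MonoidHom.toAdditive σ.toMonoidHom).toZModLinearMap p)
      map_one' := by
        rw [← map_one (LinearMap.toMatrixAlgEquiv b)]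
        rfl
      map_mul' := fun σ τ => by
        rw [← map_mul]
        rfl }
  refine ⟨(pad.comp toMat).toHomUnits, fun σ τ h => ?_, fun σ hσ => ?_⟩
  · have h' : toMat σ = toMat τ := by
      have h1 : pad (toMat σ) = pad (toMat τ) := congrArg Units.val h
      have h2 := (Matrix.reindex e e).injective h1
      exact (Matrix.fromBlocks_inj.mp h2).1
    have h2 := (LinearMap.toMatrixAlgEquiv b).injective h'
    apply MulEquiv.ext
    intro v
    exact congrArg Additive.toMul (LinearMap.congr_fun h2 (Additive.ofMul v))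
  · have h1 : pad (toMat σ) = -1 := hσ
    have h2 : Matrix.fromBlocks (toMat σ) 0 0 (1 : Matrix (Fin l) (Fin l) (ZMod p)) = -1 := by
      have h := congrArg (Matrix.reindex e e).symm h1
      rw [show pad (toMat σ) = Matrix.reindex e e (Matrix.fromBlocks (toMat σ) 0 0 1) from rfl,
        Equiv.symm_apply_apply] at h
      rw [h]
      ext i j
      simp [Matrix.one_apply]
    rw [← Matrix.fromBlocks_one, Matrix.fromBlocks_neg] at h2
    obtain ⟨hA, -, -, hD⟩ := Matrix.fromBlocks_inj.mp h2
    have hl0 : l = 0 := by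
      rcases l with _ | l
      · rfl
      · exfalso
        have h := congrFun (congrFun hD 0) 0
        simp at h
        have h2 : (2 : ZMod p) = 0 := by linear_combination h
        have h' : ((2 : ℕ) : ZMod p) = 0 := by simpa using h2
        rw [ZMod.natCast_eq_zero_iff] at h'
        exact hp2 ((Nat.prime_dvd_prime_iff_eq hp.out Nat.prime_two).mp h')
    refine ⟨fun v => ?_, by rw [hcardV, show k = 2 by omega]⟩
    have h3 : (MonoidHom.toAdditive σ.toMonoidHom).toZModLinearMap p = -1 :=
      (LinearMap.toMatrixAlgEquiv b).injective (by rw [map_neg, map_one]; exact hA)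
    exact congrArg Additive.toMul (LinearMap.congr_fun h3 (Additive.ofMul v))

/-- A rank two normal `p`-subgroup yields a representation of degree two, faithful on `p'`-operators, in
which an element inducing `-1` fixes no elementary subgroup of order `p ^ 2`. -/
theorem exists_rep {L : Type*} [Group L] [Finite L] (hp2 : p ≠ 2) {R : Subgroup L} [hRn : R.Normal]
    (hR : IsPGroup p R) (hr : Cfsg.PRankLE p 2 R) :
    ∃ ψ : L →* GL (Fin 2) (ZMod p),
      (∀ a, ψ a = 1 → (orderOf a).Coprime p → a ∈ centralizer (R : Set L)) ∧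
      ∀ t, ((ψ t : GL (Fin 2) (ZMod p)) : Matrix (Fin 2) (Fin 2) (ZMod p)) = -1 →
        ∀ E : Subgroup L, E ≤ R → IsMulCommutative E → (∀ a ∈ E, a ^ p = 1) →
          (∀ a ∈ E, t * a = a * t) → Nat.card E ≤ p := by
  classical
  obtain ⟨C, hCR, hN, hC2, hCself⟩ := OddLocal43.exists_class_two_self_centralizing_in hR
  set U := OddLocal43.omegaClassTwo hp.out hp2 C hC2 with hU
  have hUC : U ≤ C := fun x hx => hx.1
  have hNt : normalizer (R : Set L) = ⊤ := normalizer_eq_top_iff.mpr hRn
  have hCn : C.Normal := normalizer_eq_top_iff.mp (top_unique (hNt ▸ hN))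
  have hUn : U.Normal := ⟨fun x hx g =>
    ⟨hCn.conj_mem x hx.1 g, by rw [conj_pow, hx.2, mul_one, mul_inv_cancel]⟩⟩
  have hexp : ∀ u : U, u ^ p = 1 := fun u => Subtype.ext (by simpa using u.2.2)
  have hcl : ∀ u v w : U, Commute ⁅u, v⁆ w := fun u v w => Subtype.ext (by
    have := mem_centralizer_iff.mp (hC2 (commutator_mem_commutator u.2.1 v.2.1)) w w.2.1
    simpa [commutatorElement_def] using this.symm)
  have hrU : Cfsg.PRankLE p 2 U := OddLocal43.prankLE_mono (hUC.trans hCR) hr
  obtain ⟨Z, hZ, hc, hcard, hfix⟩ := OddLocal43.exists_small_quotient (U := U) (p := p) hexp hcl hrU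
  haveI := hZ
  obtain ⟨hZc, -, hZs⟩ := small_center hexp hrU Z hc hfix
  have he : ∀ v : U ⧸ Z, v ^ p = 1 := by
    intro v
    obtain ⟨u, rfl⟩ := QuotientGroup.mk'_surjective _ v
    rw [← map_pow, hexp, map_one]
  obtain ⟨f, hf, hfneg⟩ := exists_injective_to_GL_two_neg hp2 hc he hcard
  have hmapZ : ∀ τ : MulAut U, Z.map (τ : U →* U) = Z := characteristic_iff_map_eq.mp hZ
  let ρ : MulAut U →* MulAut (U ⧸ Z) :=
    { toFun := fun τ => QuotientGroup.congr Z Z τ (hmapZ τ)
      map_one' := MulEquiv.ext fun q => by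
        obtain ⟨u, rfl⟩ := QuotientGroup.mk'_surjective _ q
        rfl
      map_mul' := fun τ τ' => MulEquiv.ext fun q => by
        obtain ⟨u, rfl⟩ := QuotientGroup.mk'_surjective _ q
        rfl }
  let σ : L →* MulAut U := MulAut.conjNormal
  have hσ : ∀ (a : L) (u : U), ((σ a u : U) : L) = a * u * a⁻¹ := fun a u =>
    MulAut.conjNormal_apply a u
  refine ⟨f.comp (ρ.comp σ), fun a ha hcop => ?_, fun t ht E hER hEc hEe hEt => ?_⟩
  · have h1 : ρ (σ a) = 1 := hf (by rw [map_one]; exact ha)
    have h2 : ∀ u, σ a u * u⁻¹ ∈ Z := by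
      intro u
      rw [← QuotientGroup.eq_one_iff, QuotientGroup.mk_mul, QuotientGroup.mk_inv]
      exact mul_inv_eq_one.mpr (MulEquiv.congr_fun h1 (u : U ⧸ Z))
    have h3 := hfix (σ a) h2
    have hap : ∀ u : U, a ^ p * u * (a ^ p)⁻¹ = u := by
      intro u
      set z := σ a u * u⁻¹ with hz
      have hz1 : a * z * a⁻¹ = z := by rw [← hσ]; exact congrArg Subtype.val (h3 z (h2 u))
      have hz2 : a * u * a⁻¹ = z * u := by
        rw [hz, Subgroup.coe_mul, Subgroup.coe_inv, hσ, inv_mul_cancel_right]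
      rw [OddLocal43.pow_conj_of_commute (mul_inv_eq_iff_eq_mul.mp hz1) hz2 p, z.2.2, one_mul]
    have hA : zpowers a ≤ normalizer (R : Set L) := hNt ▸ le_top
    have hAU : zpowers a ≤ centralizer (U : Set L) := by
      refine zpowers_le.mpr ?_
      refine (zpowers_le.mpr ?_) (OddLocal43.mem_zpowers_pow_of_coprime hcop)
      exact mem_centralizer_iff.mpr fun u hu => (mul_inv_eq_iff_eq_mul.mp (hap ⟨u, hu⟩)).symm
    have hcopA : (Nat.card (zpowers a)).Coprime p := by rwa [Nat.card_zpowers]
    have hAC : C ≤ centralizer (zpowers a : Set L) :=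
      OddLocal43.le_centralizer_of_order_p hp2 hcopA (hR.to_le hCR) (hA.trans hN) fun x hx hxp =>
        OddLocal43.le_centralizer_symm hAU ⟨hx, hxp ▸ pow_orderOf_eq_one x⟩
    obtain ⟨k, hk⟩ := IsPGroup.iff_card.mp hR
    have hRc : R ≤ centralizer (zpowers a : Set L) := by
      refine OddLocal43.le_centralizer_of_self_centralizing hR.isNilpotent hA (hk ▸ hcopA.pow_right k) ?_
      refine le_trans ?_ (le_inf hCR hAC)
      exact (le_inf inf_le_left (inf_le_right.trans (centralizer_le (le_inf hCR hAC)))).trans hCself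
    exact OddLocal43.le_centralizer_symm hRc (mem_zpowers _)
  · obtain ⟨hinv, hV⟩ := hfneg (ρ (σ t)) ht
    have hinvZ : ∀ u : U, σ t u * u ∈ Z := fun u => by
      rw [← QuotientGroup.eq_one_iff, QuotientGroup.mk_mul]
      exact (congrArg (· * (u : U ⧸ Z)) (hinv (u : U ⧸ Z))).trans (inv_mul_cancel _)
    have hodd : Odd p := hp.out.odd_of_ne_two hp2
    have hhalf : ∀ u : U, u * u ∈ Z → u ∈ Z := fun u hu => by
      obtain ⟨j, hj⟩ := hodd
      have : (u * u) ^ (j + 1) = u := by
        rw [← pow_two, ← pow_mul, show 2 * (j + 1) = (2 * j + 1) + 1 by ring, ← hj, pow_succ, hexp,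
          one_mul]
      exact this ▸ pow_mem hu _
    have hcomm : ∀ a b : U, ⁅a, b⁆ ∈ Z := fun a b => by
      rw [← QuotientGroup.eq_one_iff, ← QuotientGroup.mk'_apply, map_commutatorElement,
        commutatorElement_eq_one_iff_mul_comm]
      exact hc _ _
    have hZne : Z ≠ ⊤ := fun h => by
      have h1 : Nat.card (U ⧸ Z) = 1 := by rw [h]; exact index_top
      have := hp.out.two_le
      rw [hV] at h1
      nlinarith
    -- commutators of inverted elements are fixed
    have hclU : commutator U ≤ center U := by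
      rw [_root_.commutator_def, commutator_le]
      exact fun a _ b _ => hZc (hcomm a b)
    have hfixZ : ∀ a b : U, σ t ⁅a, b⁆ = ⁅a, b⁆ := by
      intro a b
      obtain ⟨z, hz, ha⟩ : ∃ z ∈ Z, σ t a = z * a⁻¹ := ⟨_, hinvZ a, by group⟩
      obtain ⟨z', hz', hb⟩ : ∃ z ∈ Z, σ t b = z * b⁻¹ := ⟨_, hinvZ b, by group⟩
      have h1 : ∀ z ∈ Z, ∀ q : U, ⁅z, q⁆ = 1 ∧ ⁅q, z⁆ = 1 := fun z hz q =>
        ⟨commutatorElement_eq_one_iff_mul_comm.mpr (mem_center_iff.mp (hZc hz) q).symm,
          commutatorElement_eq_one_iff_mul_comm.mpr (mem_center_iff.mp (hZc hz) q)⟩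
      rw [map_commutatorElement, ha, hb, PGroup.comm_mul_left hclU, PGroup.comm_mul_right hclU,
        PGroup.comm_mul_right hclU, (h1 z hz _).1, (h1 z hz _).1, (h1 z' hz' _).2,
        PGroup.comm_inv_left hclU, PGroup.comm_inv_right hclU, inv_inv, one_mul, one_mul, one_mul]
    have htZ : ∀ z ∈ Z, σ t z = z := by
      by_cases hab : ∀ a b : U, a * b = b * a
      · -- the centre is trivial
        have hZbot : Z = ⊥ := by
          have h1 : Nat.card U ≤ p ^ 2 := by
            rw [← card_top]
            exact hrU ⊤ ⟨⟨fun a b => Subtype.ext (hab a b)⟩⟩ fun a _ => hexp a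
          rw [card_eq_card_quotient_mul_card_subgroup Z, hV] at h1
          refine Z.eq_bot_of_card_eq (le_antisymm ?_ Nat.card_pos)
          exact Nat.le_of_mul_le_mul_left (h1.trans (mul_one _).ge) (pow_pos hp.out.pos 2)
        intro z hz
        rw [hZbot, Subgroup.mem_bot] at hz
        rw [hz, map_one]
      · push Not at hab
        obtain ⟨a, b, hab⟩ := hab
        have hne : ⁅a, b⁆ ≠ 1 := fun h => hab (commutatorElement_eq_one_iff_mul_comm.mp h)
        intro z hz
        have hz' : Subgroup.zpowers ⁅a, b⁆ = Z := by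
          refine eq_of_le_of_card_ge (zpowers_le.mpr (hcomm a b)) ?_
          rw [Nat.card_zpowers, orderOf_eq_prime (hexp _) hne]
          exact hZs hZne
        obtain ⟨i, hi⟩ := mem_zpowers_iff.mp (hz' ▸ hz)
        rw [← hi, map_zpow, hfixZ]
    have hZR : ∀ e ∈ R, ∀ z ∈ Z, σ e z = z := by
      intro e he' z hz
      rcases eq_or_ne z 1 with rfl | hz1
      · exact map_one _
      have hzP : Subgroup.zpowers z = Z := by
        refine eq_of_le_of_card_ge (zpowers_le.mpr hz) ?_
        rw [Nat.card_zpowers, orderOf_eq_prime (hexp z) hz1]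
        exact hZs hZne
      set ZR := (Z.map U.subtype).subgroupOf R with hZRdef
      haveI : (Z.map U.subtype).Normal := inferInstance
      have hcard : Nat.card ZR = p := by
        rw [Nat.card_congr (subgroupOfEquivOfLe ((map_subtype_le Z).trans (hUC.trans hCR))).toEquiv,
          card_map_of_injective U.subtype_injective, ← hzP, Nat.card_zpowers,
          orderOf_eq_prime (hexp z) hz1]
      have hle := PGroup.le_center_of_card_eq_prime hR (N := ZR) hcard
      have h := mem_center_iff.mp (hle (show (⟨(z : L), hCR (hUC z.2)⟩ : R) ∈ ZR from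
        ⟨z, hz, rfl⟩)) ⟨e, he'⟩
      refine Subtype.ext ?_
      rw [hσ]
      exact mul_inv_eq_iff_eq_mul.mpr (congrArg Subtype.val h)
    by_contra hlt
    push Not at hlt
    -- a point of `U / Z` fixed by `E`
    let ρE : E →* MulAut (U ⧸ Z) := (ρ.comp σ).comp E.subtype
    letI : MulAction E (U ⧸ Z) := MulAction.compHom _ ρE
    have hEp : IsPGroup p E := fun a => ⟨1, by rw [pow_one]; exact Subtype.ext (by simpa using hEe a a.2)⟩
    have hdvd : p ∣ Nat.card (U ⧸ Z) := hV ▸ dvd_pow_self p two_ne_zero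
    obtain ⟨w, hw, hw1⟩ := hEp.exists_fixed_point_of_prime_dvd_card_of_fixed_point (U ⧸ Z) hdvd
      (a := 1) (fun e => map_one (ρE e))
    obtain ⟨u, rfl⟩ := QuotientGroup.mk'_surjective Z w
    have hu : u ∉ Z := fun h => hw1 ((QuotientGroup.eq_one_iff u).mpr h).symm
    have hcu : ∀ e ∈ E, e * (u : L) = (u : L) * e := by
      intro e he'
      have h1 : σ e u * u⁻¹ ∈ Z := by
        rw [← QuotientGroup.eq_one_iff, QuotientGroup.mk_mul, QuotientGroup.mk_inv]
        exact mul_inv_eq_one.mpr (hw ⟨e, he'⟩)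
      set z := σ e u * u⁻¹ with hz
      have hez : σ e u = z * u := by rw [hz, inv_mul_cancel_right]
      -- apply `t`
      obtain ⟨z', hz', hu'⟩ : ∃ z ∈ Z, σ t u = z * u⁻¹ := ⟨_, hinvZ u, by group⟩
      have hte : σ t (σ e u) = σ e (σ t u) := by
        rw [← MulAut.mul_apply, ← MulAut.mul_apply, ← map_mul, ← map_mul, hEt e he']
      rw [hez, map_mul, htZ z h1, hu', map_mul, map_inv, hez] at hte
      have hez' : σ e z' = z' := hZR e (hER he') z' hz'
      rw [hez'] at hte
      have hzz : z * z = 1 := by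
        have hcz : ∀ q, q * z = z * q := fun q => mem_center_iff.mp (hZc h1) q
        have hcz' : ∀ q, q * z' = z' * q := fun q => mem_center_iff.mp (hZc hz') q
        have h5 : z * (z' * u⁻¹) = z' * u⁻¹ * z⁻¹ := by rw [hte, mul_inv_rev, mul_assoc]
        calc z * z = (z * (z' * u⁻¹)) * (u * z'⁻¹) * z := by group
          _ = (z' * u⁻¹ * z⁻¹) * (u * z'⁻¹) * z := by rw [h5]
          _ = z' * u⁻¹ * z⁻¹ * ((u * z'⁻¹) * z) := by rw [mul_assoc]
          _ = 1 := by rw [hcz (u * z'⁻¹)]; group
      have hz1 : z = 1 := by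
        obtain ⟨j, hj⟩ := hodd
        have := hexp z
        rw [congrArg (fun n => z ^ n) hj, pow_succ, pow_mul, pow_two, hzz, one_pow, one_mul] at this
        exact this
      rw [hz1, one_mul] at hez
      have := congrArg Subtype.val hez
      rw [hσ] at this
      exact mul_inv_eq_iff_eq_mul.mp this
    -- a too large elementary subgroup
    have huE : (u : L) ∉ E := fun h => hu (hhalf u (by
      have h1 : σ t u = u := Subtype.ext (by rw [hσ, hEt _ h, mul_inv_cancel_right])
      have h2 := hinvZ u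
      rwa [h1] at h2))
    set E' := closure ((E : Set L) ∪ {(u : L)}) with hE'
    have hE'c : IsMulCommutative E' := OddLocal43.isMulCommutative_closure_of_comm (by
      rintro a (ha | ha) b (hb | hb)
      · exact congrArg Subtype.val (mul_comm' (⟨a, ha⟩ : E) ⟨b, hb⟩)
      · rw [Set.mem_singleton_iff.mp hb]; exact hcu a ha
      · rw [Set.mem_singleton_iff.mp ha]; exact (hcu b hb).symm
      · rw [Set.mem_singleton_iff.mp ha, Set.mem_singleton_iff.mp hb])
    have hE'e : ∀ a ∈ E', a ^ p = 1 := by
      intro a ha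
      induction ha using closure_induction with
      | mem a ha =>
        rcases ha with ha | ha
        · exact hEe a ha
        · rw [Set.mem_singleton_iff.mp ha]; exact u.2.2
      | one => exact one_pow p
      | mul a b ha hb iha ihb =>
        rw [(show Commute a b from congrArg Subtype.val (mul_comm' (⟨a, ha⟩ : E') ⟨b, hb⟩)).mul_pow,
          iha, ihb, one_mul]
      | inv a ha iha => rw [inv_pow, iha, inv_one]
    have hlt' : E < E' := lt_of_le_of_ne (fun a ha => subset_closure (Or.inl ha))
      fun h => huE (h ▸ subset_closure (Or.inr rfl))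
    have hE'R : E' ≤ R := (closure_le R).mpr (by
      rintro a (ha | ha)
      · exact hER ha
      · rw [Set.mem_singleton_iff.mp ha]; exact hCR (hUC u.2))
    have hE'p : IsPGroup p E' := hR.to_le hE'R
    have h1 := OddLocal43.mul_le_card_of_lt hp.out hE'p hlt'
    have h2 : Nat.card E' ≤ p ^ 2 := by
      rw [← Nat.card_congr (subgroupOfEquivOfLe hE'R).toEquiv]
      refine hr _ ⟨⟨fun a b => Subtype.ext (Subtype.ext ?_)⟩⟩ fun a ha => Subtype.ext ?_
      · exact (congrArg Subtype.val (mul_comm' (⟨_, a.2⟩ : E') ⟨_, b.2⟩) : _)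
      · simpa using hE'e _ ha
    rw [pow_two] at h2
    have h3 : p * Nat.card E ≤ p * p := h1.trans h2
    have h4 := Nat.le_of_mul_le_mul_left h3 hp.out.pos
    omega

end Cfsg.Agent.ClassTech.RankTwoChief
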