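import Cfsg.Agent.ClassTech.RankTwoChief.Mat
import Cfsg.Agent.ClassTech.RankTwoChief.Inverted
import Cfsg.Agent.ClassTech.RankTwoChief.Rep

/-!
Irreducible top sections of normal `p`-subgroups of rank two in `p`-solvable groups.
-/

set_option autoImplicit false

namespace Cfsg.Agent.ClassTech.RankTwoChief

open Subgroup
open scoped commutatorElement

variable {p : ℕ} [hp : Fact p.Prime]

theorem card_section_le_sq {L : Type*} [Group L] [Finite L] (hp2 : p ≠ 2)
    (hs : Cfsg.IsPSolvable p L) (R : Subgroup L) [hRn : R.Normal] (hR : IsPGroup p R)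
    (hr : Cfsg.PRankLE p 2 R) (K : Subgroup R) [hKn : K.Normal]
    (hKinv : ∀ g : L, ∀ x ∈ K, MulAut.conjNormal g x ∈ K) (hKne : K ≠ ⊤)
    (hirr : ∀ N : Subgroup R, N.Normal → K ≤ N → (∀ g : L, ∀ x ∈ N, MulAut.conjNormal g x ∈ N) →
      N = K ∨ N = ⊤) :
    K.index ≤ p ^ 2 := by
  classical
  haveI := hR.isNilpotent
  set c : L →* MulAut R := MulAut.conjNormal with hc
  -- conjugation by elements of `R` itself
  have hcR : ∀ (r x : R), c (r : L) x = r * x * r⁻¹ := fun r x =>
    Subtype.ext (by rw [hc, MulAut.conjNormal_apply]; simp)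
  -- the section is elementary abelian
  have hKD : commutator R ≤ K ∧ frattini R ≤ K := by
    have key : ∀ S : Subgroup R, S.Characteristic → (K ⊔ S = ⊤ → K = ⊤) → S ≤ K := by
      intro S hS hne
      haveI := hS
      have hinv : ∀ g : L, ∀ x ∈ K ⊔ S, c g x ∈ K ⊔ S := by
        intro g
        have : K ⊔ S ≤ (K ⊔ S).comap (c g : R →* R) := sup_le
          (fun y hy => mem_sup_left (hKinv g y hy))
          fun y hy => mem_sup_right ((Subgroup.characteristic_iff_le_comap.mp hS (c g)) hy)
        exact fun x hx => this hx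
      rcases hirr (K ⊔ S) inferInstance le_sup_left hinv with h | h
      · exact le_sup_right.trans h.le
      · exact absurd (hne h) hKne
    have hF : frattini R ≤ K := key _ inferInstance fun h => frattini_nongenerating (K := K) h
    exact ⟨(PGroup.commutator_le_frattini hR).trans hF, hF⟩
  have hqc : ∀ a b : R ⧸ K, a * b = b * a := by
    intro a b
    obtain ⟨a, rfl⟩ := QuotientGroup.mk'_surjective K a
    obtain ⟨b, rfl⟩ := QuotientGroup.mk'_surjective K b
    rw [← commutatorElement_eq_one_iff_mul_comm, ← map_commutatorElement]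
    exact (QuotientGroup.eq_one_iff _).mpr (hKD.1 (PGroup.commutatorElement_mem_commutator a b))
  have hqe : ∀ v : R ⧸ K, v ^ p = 1 := by
    intro v
    obtain ⟨x, rfl⟩ := QuotientGroup.mk'_surjective K v
    rw [← map_pow]
    exact (QuotientGroup.eq_one_iff _).mpr (hKD.2 (PGroup.pow_mem_frattini hR x))
  haveI : Nontrivial (R ⧸ K) := QuotientGroup.nontrivial_iff.mpr hKne
  -- the action on the section
  have hmapK : ∀ g : L, K.map (c g : R →* R) = K := by
    intro g
    refine le_antisymm (map_le_iff_le_comap.mpr fun x hx => hKinv g x hx) fun x hx => ?_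
    refine ⟨c g⁻¹ x, hKinv g⁻¹ x hx, ?_⟩
    show c g (c g⁻¹ x) = x
    rw [← MulAut.mul_apply, ← map_mul, mul_inv_cancel, map_one, MulAut.one_apply]
  let act : L →* MulAut (R ⧸ K) :=
    { toFun := fun g => QuotientGroup.congr K K (c g) (hmapK g)
      map_one' := MulEquiv.ext fun q => by
        obtain ⟨u, rfl⟩ := QuotientGroup.mk'_surjective _ q
        show ((c 1 u : R) : R ⧸ K) = _
        rw [map_one]; rfl
      map_mul' := fun g h => MulEquiv.ext fun q => by
        obtain ⟨u, rfl⟩ := QuotientGroup.mk'_surjective _ q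
        show ((c (g * h) u : R) : R ⧸ K) = _
        rw [map_mul]; rfl }
  have hact : ∀ g (x : R), act g (x : R ⧸ K) = ((c g x : R) : R ⧸ K) := fun g x => rfl
  -- invariant subgroups of the section
  have hirrV : ∀ W : Subgroup (R ⧸ K), (∀ g, ∀ w ∈ W, act g w ∈ W) → W = ⊥ ∨ W = ⊤ := by
    intro W hW
    rcases hirr (W.comap (QuotientGroup.mk' K)) ((⟨fun w hw g => by
        rwa [hqc g w, mul_inv_cancel_right]⟩ : W.Normal).comap _)
      (fun x hx => by
        show QuotientGroup.mk' K x ∈ W
        rw [show QuotientGroup.mk' K x = 1 from (QuotientGroup.eq_one_iff x).mpr hx]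
        exact one_mem _)
      (fun g x hx => hW g _ hx) with h | h
    · left
      rw [eq_bot_iff]
      intro w hw
      obtain ⟨x, rfl⟩ := QuotientGroup.mk'_surjective K w
      exact (QuotientGroup.eq_one_iff x).mpr (h.le hw)
    · right
      rw [eq_top_iff]
      intro w _
      obtain ⟨x, rfl⟩ := QuotientGroup.mk'_surjective K w
      exact h.ge (mem_top x)
  obtain ⟨ψ, hψ, hψneg⟩ := exists_rep hp2 hR hr
  have hcker : ∀ a : L, a ∈ centralizer (R : Set L) → c a = 1 := fun a ha =>
    MulEquiv.ext fun x => Subtype.ext (by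
      rw [hc, MulAut.conjNormal_apply, ← mem_centralizer_iff.mp ha x x.2, mul_inv_cancel_right]
      rfl)
  -- the kernel of the representation acts as a `p`-group
  have hkerp : ∀ a : L, ψ a = 1 → ∃ k : ℕ, c a ^ p ^ k = 1 := by
    intro a ha
    refine ⟨(orderOf a).factorization p, ?_⟩
    rw [← map_pow]
    refine hcker _ (hψ _ (by rw [map_pow, ha, one_pow]) ?_)
    rw [orderOf_pow_of_dvd (pow_ne_zero _ hp.out.ne_zero) (Nat.ordProj_dvd _ _)]
    exact (Nat.coprime_ordCompl hp.out (orderOf_pos a).ne').symm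
  -- normal subgroups inducing `p`-groups act trivially on the section
  have hJ : ∀ J : Subgroup L, J.Normal → IsPGroup p (J.map ψ) → ∀ g ∈ J, act g = 1 := by
    intro J hJn hJp
    have hPJ : IsPGroup p (J.map act) := by
      rintro ⟨_, g, hg, rfl⟩
      obtain ⟨k, hk⟩ := hJp ⟨ψ g, mem_map_of_mem ψ hg⟩
      have hk' : ψ (g ^ p ^ k) = 1 := by rw [map_pow]; exact congrArg Subtype.val hk
      obtain ⟨j, hj⟩ := hkerp _ hk'
      refine ⟨k + j, Subtype.ext ?_⟩
      show act g ^ p ^ (k + j) = 1
      rw [pow_add, pow_mul, ← map_pow, ← map_pow]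
      refine MulEquiv.ext fun q => ?_
      obtain ⟨x, rfl⟩ := QuotientGroup.mk'_surjective K q
      show act _ (x : R ⧸ K) = _
      rw [hact, map_pow, hj]; rfl
    letI : MulAction (J.map act) (R ⧸ K) := MulAction.compHom _ (J.map act).subtype
    have hdvd : p ∣ Nat.card (R ⧸ K) := by
      obtain ⟨n, hn⟩ := IsPGroup.iff_card.mp (hR.to_quotient K)
      rcases n with _ | n
      · rw [pow_zero] at hn
        exact absurd hn Finite.one_lt_card.ne'
      · exact hn ▸ dvd_pow_self p n.succ_ne_zero
    obtain ⟨w, hw, hw1⟩ := hPJ.exists_fixed_point_of_prime_dvd_card_of_fixed_point (R ⧸ K) hdvd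
      (a := 1) (fun e => map_one (e : MulAut (R ⧸ K)))
    let W : Subgroup (R ⧸ K) :=
      { carrier := {v | ∀ g ∈ J, act g v = v}
        one_mem' := fun g _ => map_one _
        mul_mem' := fun {a b} ha hb g hg => by rw [map_mul, ha g hg, hb g hg]
        inv_mem' := fun {a} ha g hg => by rw [map_inv, ha g hg] }
    rcases hirrV W (fun g v hv h hh => by
      have h1 := hv (g⁻¹ * h * g) (by simpa using hJn.conj_mem h hh g⁻¹)
      calc act h (act g v) = act g (act (g⁻¹ * h * g) v) := by
            rw [← MulAut.mul_apply, ← MulAut.mul_apply, ← map_mul, ← map_mul]; congr 2; group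
        _ = act g v := by rw [h1]) with h | h
    · exfalso
      have hwW : w ∈ W := fun g hg => hw ⟨act g, mem_map_of_mem act hg⟩
      rw [h, Subgroup.mem_bot] at hwW
      exact hw1 hwW.symm
    · intro g hg
      refine MulEquiv.ext fun v => ?_
      exact (h.ge (mem_top v) : v ∈ W) g hg
  have hker : ∀ g, ψ g = 1 → act g = 1 := fun g hg =>
    hJ ψ.ker inferInstance (by
      rw [(Subgroup.map_eq_bot_iff _).mpr le_rfl]; exact IsPGroup.of_bot) g hg
  obtain ⟨n, hn⟩ := IsPGroup.iff_card.mp (hR.to_quotient K)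
  by_cases hm1 : ∀ g, mat ψ g ≠ -1
  · -- no element induces `-1`
    letI : CommGroup (R ⧸ K) := { (inferInstance : Group (R ⧸ K)) with mul_comm := hqc }
    letI : Module (ZMod p) (Additive (R ⧸ K)) :=
      AddCommGroup.zmodModule (n := p) (G := Additive (R ⧸ K)) fun v => hqe v.toMul
    haveI : Module.Finite (ZMod p) (Additive (R ⧸ K)) := Module.Finite.of_finite
    let ρ : L →* Module.End (ZMod p) (Additive (R ⧸ K)) :=
      { toFun := fun g => (MonoidHom.toAdditive (act g).toMonoidHom).toZModLinearMap p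
        map_one' := LinearMap.ext fun v => by
          show Additive.ofMul (act 1 v.toMul) = _
          rw [map_one]; rfl
        map_mul' := fun g h => LinearMap.ext fun v => by
          show Additive.ofMul (act (g * h) v.toMul) = _
          rw [map_mul]; rfl }
    have hρ : ∀ g v, ρ g v = Additive.ofMul (act g v.toMul) := fun g v => rfl
    have hI : Irred ρ := by
      intro W hW
      let W' : Subgroup (R ⧸ K) :=
        { carrier := {v | Additive.ofMul v ∈ W}
          one_mem' := W.zero_mem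
          mul_mem' := fun {a b} ha hb => W.add_mem ha hb
          inv_mem' := fun {a} ha => W.neg_mem ha }
      rcases hirrV W' (fun g w hw => hW g _ hw) with h | h
      · left
        rw [eq_bot_iff]
        intro v hv
        have h1 : v.toMul ∈ W' := hv
        rw [h, Subgroup.mem_bot] at h1
        show v = 0
        exact congrArg Additive.ofMul h1
      · right
        rw [eq_top_iff]
        intro v _
        exact h.ge (mem_top v.toMul)
    have hfr := finrank_le_two_of_no_neg_one hp2 hs ψ hm1 ρ hI fun J hJn hJp g hg =>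
      LinearMap.ext fun v => by
        rw [hρ, hJ J hJn hJp g hg]; rfl
    have h := @Module.natCard_eq_pow_finrank (ZMod p) (Additive (R ⧸ K)) _ _ _ ‹_›
    rw [Nat.card_zmod] at h
    rw [index_eq_card]
    calc Nat.card (R ⧸ K) = p ^ Module.finrank (ZMod p) (Additive (R ⧸ K)) := h
      _ ≤ p ^ 2 := Nat.pow_le_pow_right hp.out.pos hfr
  push Not at hm1
  obtain ⟨t₀, ht₀⟩ := hm1
  -- a `2`-element inducing `-1`
  obtain ⟨t, ht, htcop⟩ : ∃ t, mat ψ t = -1 ∧ (orderOf t).Coprime p := by
    set o := orderOf t₀ with ho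
    set m := o / 2 ^ o.factorization 2 with hm
    have hm_odd : ¬ 2 ∣ m := Nat.not_dvd_ordCompl Nat.prime_two (orderOf_pos t₀).ne'
    refine ⟨t₀ ^ m, ?_, ?_⟩
    · rw [mat_pow, ht₀, Odd.neg_one_pow (Nat.odd_iff.mpr (Nat.two_dvd_ne_zero.mp hm_odd))]
    · have h1 : orderOf (t₀ ^ m) ∣ 2 ^ o.factorization 2 := by
        refine orderOf_dvd_of_pow_eq_one ?_
        rw [← pow_mul, mul_comm, Nat.mul_div_cancel' (Nat.ordProj_dvd o 2), ho, pow_orderOf_eq_one]
      exact Nat.Coprime.coprime_dvd_left h1
        (Nat.Coprime.pow_left _ ((Nat.coprime_primes Nat.prime_two hp.out).mpr (Ne.symm hp2)))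
  have htt : c t * c t = 1 := by
    rw [← map_mul]
    refine hcker _ (hψ _ (Units.ext ?_) ?_)
    · show mat ψ (t * t) = 1
      rw [mat_mul, ht, neg_mul_neg, one_mul]
    · rw [← pow_two]
      exact Nat.Coprime.coprime_dvd_left (orderOf_pow_dvd 2) htcop
  have hψt : ∀ g : L, ψ ⁅g, t⁆ = 1 := by
    intro g
    rw [map_commutatorElement, commutatorElement_eq_one_iff_mul_comm]
    refine Units.ext ?_
    rw [Units.val_mul, Units.val_mul]
    show mat ψ g * mat ψ t = mat ψ t * mat ψ g
    rw [ht, mul_neg, mul_one, neg_mul, one_mul]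
  have hctact : ∀ g, act g * act t = act t * act g := fun g => by
    rw [← map_mul, ← map_mul, show g * t = ⁅g, t⁆ * (t * g) by rw [commutatorElement_def]; group,
      map_mul act ⁅g, t⁆, hker _ (hψt g), one_mul]
  have ht2 : ∀ x : R, c t (c t x) = x := fun x => by rw [← MulAut.mul_apply, htt, MulAut.one_apply]
  -- no large elementary group of fixed points
  have hcyc : ∀ E : Subgroup R, IsMulCommutative E → (∀ a ∈ E, a ^ p = 1) → (∀ a ∈ E, c t a = a) →
      Nat.card E ≤ p := by
    intro E hEc hEe hEt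
    rw [← card_map_of_injective R.subtype_injective]
    refine hψneg t ht _ (map_subtype_le _) (Subgroup.map_isMulCommutative _ _) ?_ ?_
    · rintro _ ⟨a, ha, rfl⟩
      rw [← map_pow, hEe a ha, map_one]
    · rintro _ ⟨a, ha, rfl⟩
      have := congrArg Subtype.val (hEt a ha)
      rw [hc, MulAut.conjNormal_apply] at this
      exact mul_inv_eq_iff_eq_mul.mp this
  let F : Subgroup (R ⧸ K) := MonoidHom.eqLocus (act t : R ⧸ K →* R ⧸ K) (MonoidHom.id _)
  rcases hirrV F (fun g v hv => by
      show act t (act g v) = act g v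
      rw [← MulAut.mul_apply, ← hctact, MulAut.mul_apply, show act t v = v from hv]) with hF | hF
  swap
  · -- `t` fixes the section: it is cyclic
    set C := MonoidHom.eqLocus (c t : R →* R) (MonoidHom.id R) with hC
    have hCcyc : IsCyclic C := by
      refine LAE65.isCyclic_of_unique_order_p hp2 (hR.to_subgroup C) fun x y hx hx1 hy => ?_
      by_contra hyx
      obtain ⟨z, hz, hzp, hzc⟩ : ∃ z : C, z ∉ Subgroup.zpowers x ∧ z ^ p = 1 ∧ Commute z x :=
        exists_commuting_of_not_mem_zpowers (hR.to_subgroup C) hx hx1 hy hyx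
      set E := closure ({(x : R), (z : R)} : Set R) with hE
      have hEc : IsMulCommutative E := OddLocal43.isMulCommutative_closure_of_comm (by
        have hzc' : (z : R) * x = x * z := congrArg Subtype.val hzc.eq
        rintro a (rfl | rfl) b (rfl | rfl) <;> first | rfl | exact hzc' | exact hzc'.symm)
      have hEe : ∀ a ∈ E, a ^ p = 1 := by
        intro a ha
        induction ha using closure_induction with
        | mem a ha =>
          rcases ha with rfl | rfl
          · exact congrArg Subtype.val hx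
          · exact congrArg Subtype.val hzp
        | one => exact one_pow p
        | mul a b ha hb iha ihb =>
          rw [(show Commute a b from congrArg Subtype.val (mul_comm' (⟨a, ha⟩ : E) ⟨b, hb⟩)).mul_pow,
            iha, ihb, one_mul]
        | inv a ha iha => rw [inv_pow, iha, inv_one]
      have h1 := hcyc E hEc hEe fun a ha =>
        ((closure_le C).mpr (by rintro a (rfl | rfl) <;> exact SetLike.coe_mem _) ha : a ∈ C)
      have hlt : Subgroup.zpowers (x : R) < E := by
        refine lt_of_le_of_ne ((zpowers_le).mpr (subset_closure (Set.mem_insert _ _))) fun h => hz ?_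
        obtain ⟨k, hk⟩ := mem_zpowers_iff.mp
          (h ▸ subset_closure (Set.mem_insert_of_mem _ rfl) : (z : R) ∈ Subgroup.zpowers (x : R))
        exact mem_zpowers_iff.mpr ⟨k, Subtype.ext (by simpa using hk)⟩
      have h2 := OddLocal43.mul_le_card_of_lt hp.out (hR.to_subgroup E) hlt
      rw [Nat.card_zpowers, Subgroup.orderOf_coe, orderOf_eq_prime hx hx1] at h2
      have := hp.out.two_le
      nlinarith
    obtain ⟨⟨c0, hc0C⟩, hc0⟩ := hCcyc.exists_generator
    have hsurj : ∀ v : R ⧸ K, v ∈ Subgroup.zpowers ((c0 : R) : R ⧸ K) := by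
      intro v
      obtain ⟨x, rfl⟩ := QuotientGroup.mk'_surjective K v
      have h1 : x⁻¹ * c t x ∈ K := by
        rw [← QuotientGroup.eq_one_iff, QuotientGroup.mk_mul, QuotientGroup.mk_inv, ← hact,
          show act t (x : R ⧸ K) = x from (hF.ge (mem_top _) : (x : R ⧸ K) ∈ F), inv_mul_cancel]
      obtain ⟨k, hk, hfix⟩ := exists_fixed_mul hp2 hR (c t) ht2 K h1
      obtain ⟨i, hi⟩ := mem_zpowers_iff.mp (hc0 ⟨x * k, hfix⟩)
      refine mem_zpowers_iff.mpr ⟨i, ?_⟩
      have hi' : c0 ^ i = x * k := congrArg Subtype.val hi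
      rw [← QuotientGroup.mk_zpow, hi', QuotientGroup.mk_mul, (QuotientGroup.eq_one_iff k).mpr hk,
        mul_one]
      rfl
    rw [index_eq_card, ← card_top, ← eq_top_iff.mpr (fun v _ => hsurj v :
      (⊤ : Subgroup (R ⧸ K)) ≤ Subgroup.zpowers ((c0 : R) : R ⧸ K)), Nat.card_zpowers]
    exact (Nat.le_of_dvd hp.out.pos (orderOf_dvd_of_pow_eq_one (hqe _))).trans
      (Nat.le_self_pow two_ne_zero p)
  -- `t` inverts the section
  have hinv : ∀ x : R, c t x * x ∈ K := by
    intro x
    rw [← QuotientGroup.eq_one_iff, QuotientGroup.mk_mul, ← hact, ← Subgroup.mem_bot, ← hF]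
    show act t _ = _
    rw [map_mul, ← MulAut.mul_apply, show act t * act t = 1 from MulEquiv.ext fun q => by
      obtain ⟨u, rfl⟩ := QuotientGroup.mk'_surjective K q
      show act t (act t (u : R ⧸ K)) = _
      rw [hact, hact, ht2]; rfl, MulAut.one_apply]
    exact hqc _ _
  -- operators commuting with `t`
  let Nk : Subgroup (MulAut R) := ψ.ker.map c
  have hNk : IsPGroup p Nk := by
    rintro ⟨_, g, hg, rfl⟩
    obtain ⟨k, hk⟩ := hkerp g hg
    exact ⟨k, Subtype.ext hk⟩
  have hlift : ∀ g, ∃ g', c g' * c t = c t * c g' ∧ act g' = act g := by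
    intro g
    have hcop : (Nat.card (Subgroup.zpowers (c t))).Coprime (Nat.card Nk) := by
      obtain ⟨k, hk⟩ := IsPGroup.iff_card.mp hNk
      rw [hk, Nat.card_zpowers]
      exact (Nat.Coprime.coprime_dvd_left (orderOf_map_dvd c t) htcop).pow_right k
    have hnorm : Subgroup.zpowers (c t) ≤ normalizer (Nk : Set (MulAut R)) := by
      rw [Subgroup.zpowers_le]
      refine Coprime.mem_normalizer_of_le_iff ?_ ?_ <;> rintro _ ⟨a, ha, rfl⟩
      · exact ⟨t * a * t⁻¹, (inferInstance : ψ.ker.Normal).conj_mem a ha t, by simp⟩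
      · exact ⟨t⁻¹ * a * t, by simpa using (inferInstance : ψ.ker.Normal).conj_mem a ha t⁻¹,
          by simp⟩
    obtain ⟨n, ⟨a, ha, rfl⟩, hfix⟩ := Coprime.exists_fixed_in_coset (Subgroup.zpowers (c t)) Nk hnorm
      hcop (Or.inl (Group.isSolvable_of_comm fun a b => mul_comm' a b)) (c g) (by
        intro a ha
        obtain ⟨i, rfl⟩ := mem_zpowers_iff.mp ha
        refine ⟨g⁻¹ * (t ^ i * g * (t ^ i)⁻¹), ?_, by simp⟩
        show ψ _ = 1
        have hcm : Commute (ψ t) (ψ g) := by
          have h := hψt g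
          rw [map_commutatorElement, commutatorElement_eq_one_iff_mul_comm] at h
          exact h.symm
        rw [map_mul, map_inv, map_mul, map_mul, map_inv, map_zpow, (hcm.zpow_left i).eq,
          mul_inv_cancel_right, inv_mul_cancel])
    refine ⟨g * a, ?_, ?_⟩
    · rw [map_mul c g a]
      exact (mem_centralizer_iff.mp hfix _ (mem_zpowers _)).symm
    · rw [map_mul act g a, hker a ha, mul_one]
  let S : Set (MulAut R) := {φ | ∃ g, φ = c g ∧ c g * c t = c t * c g}
  have hSmul : ∀ φ ∈ S, ∀ x, φ (c t x) = c t (φ x) := by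
    rintro φ ⟨g, rfl, hg⟩ x
    exact DFunLike.congr_fun hg x
  have htS : c t ∈ S := ⟨t, rfl, rfl⟩
  -- a minimal invariant supplement
  obtain ⟨M', ⟨hM'inv, hM'sup⟩, hM'min⟩ := (wellFounded_lt (α := Subgroup R)).has_min
    {N : Subgroup R | (∀ φ ∈ S, ∀ x ∈ N, φ x ∈ N) ∧ K ⊔ N = ⊤}
    ⟨⊤, fun _ _ _ _ => trivial, sup_top_eq _⟩
  have hsmall : ∀ N : Subgroup R, N ≤ M' → N ≠ M' → (∀ φ ∈ S, ∀ x ∈ N, φ x ∈ N) → N ≤ K := by
    intro N hN hne hNinv
    rcases hirrV (N.map (QuotientGroup.mk' K)) (fun g w hw => by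
      obtain ⟨x, hx, rfl⟩ := hw
      obtain ⟨g', hg', he⟩ := hlift g
      rw [← he]
      exact ⟨c g' x, hNinv _ ⟨g', rfl, hg'⟩ x hx, rfl⟩) with h | h
    · rw [Subgroup.map_eq_bot_iff, QuotientGroup.ker_mk'] at h
      exact h
    · exfalso
      refine hM'min N ⟨hNinv, ?_⟩ (lt_of_le_of_ne hN hne)
      rw [eq_top_iff]
      intro x _
      obtain ⟨y, hy, hxy⟩ := h.ge (mem_top (QuotientGroup.mk' K x))
      have h1 : x * y⁻¹ ∈ K := by
        rw [← QuotientGroup.eq_one_iff, ← QuotientGroup.mk'_apply, map_mul, map_inv, hxy, mul_inv_cancel]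
      rw [show x = x * y⁻¹ * y by group]
      exact mul_mem_sup h1 hy
  -- restriction to the supplement
  let res : ∀ φ : MulAut R, φ ∈ S → MulAut M' := fun φ hφ =>
    MulEquiv.ofBijective (MonoidHom.codRestrict ((φ : R →* R).comp M'.subtype) M'
      fun x => hM'inv φ hφ x x.2)
      ((Finite.injective_iff_bijective).mp fun a b h =>
        Subtype.ext (φ.injective (congrArg Subtype.val h)))
  have hres : ∀ φ (hφ : φ ∈ S) (x : M'), ((res φ hφ x : M') : R) = φ x := fun φ hφ x => rfl
  have hidx : (K.subgroupOf M').index = K.index := by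
    show K.relIndex M' = _
    rw [← Subgroup.relIndex_sup_left, hM'sup, relIndex_top_right]
  have hmain := index_le_sq_of_inverted (M := M') hp2 (hR.to_subgroup M')
    (OddLocal43.prankLE_of_injective M'.subtype M'.subtype_injective hr)
    {ψ' | ∃ φ, ∃ hφ : φ ∈ S, ψ' = res φ hφ} (res (c t) htS)
    (by
      rintro _ ⟨φ, hφ, rfl⟩ x
      exact Subtype.ext (hSmul φ hφ x))
    (fun x => Subtype.ext (ht2 x)) (K.subgroupOf M')
    (fun h => hKne (by rwa [← index_eq_one, ← hidx, index_eq_one]))
    (fun x => hinv x)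
    (fun N _ hN hne x hx => hsmall (N.map M'.subtype) (map_subtype_le _) (fun h => hne (by
        rw [eq_top_iff]
        intro y _
        obtain ⟨z, hz, hzy⟩ := h.ge y.2
        exact (Subtype.ext hzy : z = y) ▸ hz))
      (by
        rintro φ hφ _ ⟨z, hz, rfl⟩
        exact ⟨res φ hφ z, hN _ ⟨φ, hφ, rfl⟩ z hz, rfl⟩)
      ⟨x, hx, rfl⟩)
    (fun E hEc hEe hEt => by
      rw [← card_map_of_injective M'.subtype_injective]
      refine hcyc _ (Subgroup.map_isMulCommutative _ _) ?_ ?_
      · rintro _ ⟨a, ha, rfl⟩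
        rw [← map_pow, hEe a ha, map_one]
      · rintro _ ⟨a, ha, rfl⟩
        exact congrArg Subtype.val (hEt a ha))
  rwa [hidx] at hmain

end Cfsg.Agent.ClassTech.RankTwoChief
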