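import Mathlib

/-!
Irreducible modules over `ZMod p` for groups with an abelian subgroup of index at most two on which the
other elements act as the identity or as the `p`-th power map: their dimension is at most two.
-/

set_option autoImplicit false

namespace Cfsg.Agent.ClassTech.RankTwoChief

open Module Polynomial

variable {p : ℕ} [hp : Fact p.Prime] {V : Type*} [AddCommGroup V] [Module (ZMod p) V]

/-- An operator equal to its `p`-th power has an eigenvector in every invariant subspace. -/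
theorem exists_eigen_mem (T : End (ZMod p) V) (hT : T ^ p = T) (U : Submodule (ZMod p) V)
    (hU : ∀ w ∈ U, T w ∈ U) {v : V} (hv : v ∈ U) (hv0 : v ≠ 0) :
    ∃ c : ZMod p, ∃ w ∈ U, w ≠ 0 ∧ T w = c • w := by
  classical
  have key : ∀ s : Finset (ZMod p), ∀ w ∈ U, w ≠ 0 → aeval T (∏ c ∈ s, (X - C c)) w = 0 →
      ∃ c : ZMod p, ∃ w' ∈ U, w' ≠ 0 ∧ T w' = c • w' := by
    intro s
    induction s using Finset.induction_on with
    | empty => intro w _ hw0 h; simp at h; exact absurd h hw0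
    | @insert a s ha ih =>
      intro w hw hw0 h
      by_cases h1 : T w = a • w
      · exact ⟨a, w, hw, hw0, h1⟩
      · refine ih (T w - a • w) (sub_mem (hU w hw) (U.smul_mem a hw)) (sub_ne_zero.mpr h1) ?_
        rw [Finset.prod_insert ha, mul_comm, map_mul, End.mul_apply] at h
        simpa using h
  refine key Finset.univ v hv hv0 ?_
  have hmon : (X ^ p - X : (ZMod p)[X]).Monic := monic_X_pow_sub (by
    rw [degree_X]; exact_mod_cast hp.out.one_lt)
  have hroots : (X ^ p - X : (ZMod p)[X]).roots = Finset.univ.val := by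
    have := FiniteField.roots_X_pow_card_sub_X (ZMod p)
    rwa [ZMod.card] at this
  have hprod : (∏ c : ZMod p, (X - C c)) = X ^ p - X := by
    have h := prod_multiset_X_sub_C_of_monic_of_roots_card_eq hmon (by
      rw [hroots, FiniteField.X_pow_card_sub_X_natDegree_eq (ZMod p) hp.out.one_lt,
        ← Finset.card_def, Finset.card_univ, ZMod.card])
    rw [hroots] at h
    exact h
  rw [hprod]
  simp [hT]

variable {L : Type*} [Group L] (ρ : L →* End (ZMod p) V)

/-- No proper nonzero subspace is invariant. -/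
def Irred : Prop :=
  ∀ W : Submodule (ZMod p) V, (∀ g, ∀ w ∈ W, ρ g w ∈ W) → W = ⊥ ∨ W = ⊤

variable {ρ}

/-- A central operator equal to its `p`-th power is scalar. -/
theorem exists_scalar (hirr : Irred ρ) [Nontrivial V] {T : End (ZMod p) V} (hT : T ^ p = T)
    (hc : ∀ g, T * ρ g = ρ g * T) : ∃ c : ZMod p, T = c • 1 := by
  obtain ⟨v, hv⟩ := exists_ne (0 : V)
  obtain ⟨c, w, -, hw0, hw⟩ := exists_eigen_mem T hT ⊤ (fun _ _ => trivial) (v := v) trivial hv
  refine ⟨c, ?_⟩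
  have hinv : ∀ g, ∀ u ∈ LinearMap.ker (T - c • 1), ρ g u ∈ LinearMap.ker (T - c • 1) := by
    intro g u hu
    rw [LinearMap.mem_ker, LinearMap.sub_apply, sub_eq_zero] at hu ⊢
    calc T (ρ g u) = (T * ρ g) u := rfl
      _ = ρ g (T u) := by rw [hc]; rfl
      _ = (c • (1 : End (ZMod p) V)) (ρ g u) := by rw [hu]; simp
  rcases hirr _ hinv with h | h
  · exact absurd ((Submodule.mem_bot (ZMod p)).mp (h ▸ (by simp [LinearMap.mem_ker, hw] :
      w ∈ LinearMap.ker (T - c • 1)))) hw0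
  · exact sub_eq_zero.mp (LinearMap.ker_eq_top.mp h)

theorem finrank_le_two (hirr : Irred ρ) {v : V} (hv : v ≠ 0) (w : V)
    (h1 : ∀ g, ρ g v ∈ Submodule.span (ZMod p) {v, w})
    (h2 : ∀ g, ρ g w ∈ Submodule.span (ZMod p) {v, w}) : finrank (ZMod p) V ≤ 2 := by
  classical
  rcases hirr (Submodule.span (ZMod p) {v, w}) (fun g u hu => by
      induction hu using Submodule.span_induction with
      | mem u hu => rcases hu with rfl | rfl; exacts [h1 g, h2 g]
      | zero => simp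
      | add a b _ _ ha hb => rw [map_add]; exact add_mem ha hb
      | smul c a _ ha => rw [map_smul]; exact Submodule.smul_mem _ c ha) with h | h
  · exact absurd ((Submodule.mem_bot (ZMod p)).mp (h ▸ Submodule.subset_span (Set.mem_insert v {w}))) hv
  · rw [← finrank_top, ← h]
    refine le_trans (finrank_span_le_card _) ?_
    simp only [Set.toFinset_insert, Set.toFinset_singleton]
    exact Finset.card_le_two

/-- Commuting operators on which the `p`-th power is an involution with scalar symmetric functions lie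
in a quadratic algebra. -/
theorem exists_quadratic (hp2 : p ≠ 2) (hirr : Irred ρ) [Nontrivial V] (C : Set L)
    (hC : ∀ a ∈ C, ∀ b ∈ C, ρ a * ρ b = ρ b * ρ a) (hF : ∀ a ∈ C, (ρ a ^ p) ^ p = ρ a)
    (hT : ∀ a ∈ C, ∀ g, (ρ a + ρ a ^ p) * ρ g = ρ g * (ρ a + ρ a ^ p))
    (hr : ∀ a ∈ C, ∀ b ∈ C, ∀ g, ((ρ a - ρ a ^ p) * (ρ b - ρ b ^ p)) * ρ g =
      ρ g * ((ρ a - ρ a ^ p) * (ρ b - ρ b ^ p))) :
    ∃ δ : End (ZMod p) V, ∃ Δ : ZMod p, (δ = 0 ∨ Δ ≠ 0 ∧ ∃ a ∈ C, δ = ρ a - ρ a ^ p) ∧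
      δ * δ = Δ • 1 ∧ ∀ a ∈ C, ∃ α β : ZMod p, ρ a = α • 1 + β • δ := by
  classical
  haveI : CharP (End (ZMod p) V) p := charP_of_injective_algebraMap'
    (ZMod p) (A := End (ZMod p) V) p
  have hodd : Odd p := hp.out.odd_of_ne_two hp2
  have h2 : (2 : ZMod p) ≠ 0 := by
    intro h
    have h' : ((2 : ℕ) : ZMod p) = 0 := by simpa using h
    rw [ZMod.natCast_eq_zero_iff] at h'
    exact hp2 ((Nat.prime_dvd_prime_iff_eq hp.out Nat.prime_two).mp h')
  have hpow : ∀ a ∈ C, ∀ b ∈ C, ∀ m n : ℕ, Commute (ρ a ^ m) (ρ b ^ n) := fun a ha b hb m n =>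
    (show Commute (ρ a) (ρ b) from hC a ha b hb).pow_pow m n
  have hTsc : ∀ a ∈ C, ∃ c : ZMod p, ρ a + ρ a ^ p = c • 1 := fun a ha => by
    refine exists_scalar hirr ?_ (hT a ha)
    rw [add_pow_char_of_commute _ (by simpa using hpow a ha a ha 1 p), hF a ha, add_comm]
  have hδF : ∀ a ∈ C, (ρ a - ρ a ^ p) ^ p = -(ρ a - ρ a ^ p) := fun a ha => by
    rw [sub_pow_char_of_commute _ (by simpa using hpow a ha a ha 1 p), hF a ha, neg_sub]
  have hcomm : ∀ a ∈ C, ∀ b ∈ C, Commute (ρ a - ρ a ^ p) (ρ b - ρ b ^ p) := fun a ha b hb =>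
    Commute.sub_left ((Commute.sub_right (by simpa using hpow a ha b hb 1 1)
        (by simpa using hpow a ha b hb 1 p)))
      (Commute.sub_right (by simpa using hpow a ha b hb p 1) (hpow a ha b hb p p))
  have hrsc : ∀ a ∈ C, ∀ b ∈ C, ∃ c : ZMod p, (ρ a - ρ a ^ p) * (ρ b - ρ b ^ p) = c • 1 := by
    intro a ha b hb
    refine exists_scalar hirr ?_ (hr a ha b hb)
    rw [(hcomm a ha b hb).mul_pow, hδF a ha, hδF b hb, neg_mul_neg]
  -- from the antisymmetric part back to the operator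
  have hback : ∀ a ∈ C, ∀ δ : End (ZMod p) V, ∀ β : ZMod p, ρ a - ρ a ^ p = β • δ →
      ∃ α β : ZMod p, ρ a = α • 1 + β • δ := by
    intro a ha δ β hβ
    obtain ⟨c, hc⟩ := hTsc a ha
    refine ⟨c / 2, β / 2, ?_⟩
    have h3 : (2 : ZMod p) • ρ a = c • (1 : End (ZMod p) V) + β • δ := by
      rw [← hc, ← hβ, two_smul]; abel
    calc ρ a = (2 : ZMod p)⁻¹ • ((2 : ZMod p) • ρ a) := by rw [smul_smul, inv_mul_cancel₀ h2, one_smul]
      _ = _ := by rw [h3, smul_add, smul_smul, smul_smul, div_eq_inv_mul, div_eq_inv_mul]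
  by_cases hex : ∃ a ∈ C, ρ a - ρ a ^ p ≠ 0
  · obtain ⟨a, ha, hne⟩ := hex
    obtain ⟨Δ, hΔ⟩ := hrsc a ha a ha
    have hΔ0 : Δ ≠ 0 := by
      intro h0
      rw [h0, zero_smul] at hΔ
      obtain ⟨k, hk⟩ := hodd
      have h4 : (ρ a - ρ a ^ p) ^ p = 0 := by
        rw [congrArg (fun n => (ρ a - ρ a ^ p) ^ n) hk, pow_succ, pow_mul, pow_two, hΔ]
        rcases k with _ | k
        · have := hp.out.two_le; omega
        · simp
      rw [hδF a ha, neg_eq_zero] at h4
      exact hne h4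
    refine ⟨_, Δ, Or.inr ⟨hΔ0, a, ha, rfl⟩, hΔ, fun b hb => ?_⟩
    obtain ⟨c, hc⟩ := hrsc b hb a ha
    refine hback b hb _ (c / Δ) ?_
    have h5 : Δ • (ρ b - ρ b ^ p) = c • (ρ a - ρ a ^ p) := by
      calc Δ • (ρ b - ρ b ^ p) = (ρ b - ρ b ^ p) * ((ρ a - ρ a ^ p) * (ρ a - ρ a ^ p)) := by
            rw [hΔ, mul_smul_comm, mul_one]
        _ = c • (ρ a - ρ a ^ p) := by rw [← mul_assoc, hc, smul_mul_assoc, one_mul]
    calc ρ b - ρ b ^ p = Δ⁻¹ • (Δ • (ρ b - ρ b ^ p)) := by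
          rw [smul_smul, inv_mul_cancel₀ hΔ0, one_smul]
      _ = _ := by rw [h5, smul_smul, div_eq_inv_mul]
  · push Not at hex
    exact ⟨0, 0, Or.inl rfl, by simp, fun b hb => hback b hb 0 0 (by simp [hex b hb])⟩

/-- Commuting operators fixed by the square of the Frobenius. -/
theorem finrank_le_two_of_comm (hp2 : p ≠ 2) (hirr : Irred ρ) [Nontrivial V]
    (hc : ∀ g h, ρ g * ρ h = ρ h * ρ g) (hF : ∀ g, (ρ g ^ p) ^ p = ρ g) :
    finrank (ZMod p) V ≤ 2 := by
  obtain ⟨δ, Δ, -, hΔ, hspan⟩ := exists_quadratic hp2 hirr Set.univ (fun a _ b _ => hc a b)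
    (fun a _ => hF a)
    (fun a _ g => Commute.add_left (hc a g : _) (Commute.pow_left (hc a g : Commute (ρ a) (ρ g)) p))
    (fun a _ b _ g => Commute.mul_left
      (Commute.sub_left (hc a g : _) (Commute.pow_left (hc a g : Commute (ρ a) (ρ g)) p))
      (Commute.sub_left (hc b g : _) (Commute.pow_left (hc b g : Commute (ρ b) (ρ g)) p)))
  obtain ⟨v, hv⟩ := exists_ne (0 : V)
  refine finrank_le_two hirr hv (δ v) (fun g => ?_) fun g => ?_
  all_goals obtain ⟨α, β, hg⟩ := hspan g trivial; rw [hg]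
  · exact Submodule.mem_span_pair.mpr ⟨α, β, by simp⟩
  · refine Submodule.mem_span_pair.mpr ⟨β * Δ, α, ?_⟩
    have : δ (δ v) = Δ • v := by rw [← End.mul_apply, hΔ]; simp
    simp [this, smul_smul, add_comm]

/-- A subgroup of index two of commuting operators fixed by Frobenius. -/
theorem finrank_le_two_of_split (hirr : Irred ρ) [Nontrivial V] [FiniteDimensional (ZMod p) V]
    (C : Subgroup L) (s : L) (hgen : ∀ g, g ∈ C ∨ s⁻¹ * g ∈ C) (hs2 : s * s ∈ C)
    (hn : ∀ a ∈ C, s⁻¹ * a * s ∈ C) (hC : ∀ a ∈ C, ∀ b ∈ C, ρ a * ρ b = ρ b * ρ a)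
    (hF : ∀ a ∈ C, ρ a ^ p = ρ a) : finrank (ZMod p) V ≤ 2 := by
  classical
  obtain ⟨U, ⟨hU0, hUinv⟩, hUmin⟩ := (wellFounded_lt (α := Submodule (ZMod p) V)).has_min
    {U | U ≠ ⊥ ∧ ∀ a ∈ C, ∀ w ∈ U, ρ a w ∈ U} ⟨⊤, top_ne_bot, fun _ _ _ _ => trivial⟩
  obtain ⟨v, hvU, hv⟩ := U.exists_mem_ne_zero_of_ne_bot hU0
  have hscal : ∀ a ∈ C, ∃ c : ZMod p, ρ a v = c • v := by
    intro a ha
    obtain ⟨c, w, hw, hw0, hwc⟩ := exists_eigen_mem (ρ a) (hF a ha) U (hUinv a ha) hvU hv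
    refine ⟨c, ?_⟩
    set U' := U ⊓ LinearMap.ker (ρ a - c • 1) with hU'
    have hwU' : w ∈ U' := ⟨hw, by simp [LinearMap.mem_ker, hwc]⟩
    have hinv' : ∀ b ∈ C, ∀ u ∈ U', ρ b u ∈ U' := by
      intro b hb u hu
      refine ⟨hUinv b hb u hu.1, ?_⟩
      have h := hu.2
      rw [SetLike.mem_coe, LinearMap.mem_ker, LinearMap.sub_apply, sub_eq_zero] at h ⊢
      calc ρ a (ρ b u) = (ρ a * ρ b) u := rfl
        _ = ρ b (ρ a u) := by rw [hC a ha b hb]; rfl
        _ = _ := by rw [h]; simp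
    have hnlt := hUmin U' ⟨fun h => hw0 ((Submodule.mem_bot (ZMod p)).mp (h ▸ hwU')), hinv'⟩
    have : U' = U := (lt_or_eq_of_le inf_le_left).resolve_left hnlt
    have hv' : v ∈ U' := this.symm ▸ hvU
    have h := hv'.2
    rw [SetLike.mem_coe, LinearMap.mem_ker, LinearMap.sub_apply, sub_eq_zero] at h
    simpa using h
  refine finrank_le_two hirr hv (ρ s v) (fun g => ?_) fun g => ?_
  · rcases hgen g with hg | hg
    · obtain ⟨c, hc⟩ := hscal g hg
      exact Submodule.mem_span_pair.mpr ⟨c, 0, by simp [hc]⟩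
    · obtain ⟨c, hc⟩ := hscal _ hg
      refine Submodule.mem_span_pair.mpr ⟨0, c, ?_⟩
      rw [zero_smul, zero_add, ← map_smul, ← hc, ← End.mul_apply, ← map_mul, mul_inv_cancel_left]
  · rcases hgen g with hg | hg
    · obtain ⟨c, hc⟩ := hscal _ (hn g hg)
      refine Submodule.mem_span_pair.mpr ⟨0, c, ?_⟩
      rw [zero_smul, zero_add, ← map_smul, ← hc, ← End.mul_apply, ← map_mul, ← End.mul_apply,
        ← map_mul, show s * (s⁻¹ * g * s) = g * s by group]
    · obtain ⟨c, hc⟩ := hscal _ (mul_mem hs2 (hn _ hg))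
      refine Submodule.mem_span_pair.mpr ⟨c, 0, ?_⟩
      rw [zero_smul, add_zero, ← hc, ← End.mul_apply, ← map_mul,
        show s * s * (s⁻¹ * (s⁻¹ * g) * s) = g * s by group]

/-- A subgroup of index two of commuting operators on which the other elements act as Frobenius. -/
theorem finrank_le_two_of_frobenius (hp2 : p ≠ 2) (hirr : Irred ρ) [Nontrivial V]
    (C : Subgroup L) (s : L) (hgen : ∀ g, g ∈ C ∨ s⁻¹ * g ∈ C) (hs2 : s * s ∈ C)
    (hC : ∀ a ∈ C, ∀ b ∈ C, ρ a * ρ b = ρ b * ρ a)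
    (hσ : ∀ a ∈ C, ρ s * ρ a = ρ a ^ p * ρ s) (hF : ∀ a ∈ C, (ρ a ^ p) ^ p = ρ a) :
    finrank (ZMod p) V ≤ 2 := by
  haveI : CharP (End (ZMod p) V) p := charP_of_injective_algebraMap'
    (ZMod p) (A := End (ZMod p) V) p
  have hs' : ρ s * ρ s⁻¹ = 1 := by rw [← map_mul, mul_inv_cancel, map_one]
  have hs'' : ρ s⁻¹ * ρ s = 1 := by rw [← map_mul, inv_mul_cancel, map_one]
  -- central elements
  have hcent : ∀ T : End (ZMod p) V, (∀ a ∈ C, T * ρ a = ρ a * T) → ρ s * T = T * ρ s →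
      ∀ g, T * ρ g = ρ g * T := by
    intro T hT hTs g
    rcases hgen g with hg | hg
    · exact hT g hg
    · rw [show g = s * (s⁻¹ * g) by group, map_mul, ← mul_assoc, ← hTs, mul_assoc, hT _ hg,
        ← mul_assoc]
  have hσ' : ∀ a ∈ C, ρ s * ρ a ^ p = ρ a * ρ s := fun a ha => by
    rw [← map_pow, hσ _ (pow_mem ha p), map_pow, hF a ha]
  have hpowC : ∀ a ∈ C, ∀ b ∈ C, ∀ n : ℕ, ρ a ^ n * ρ b = ρ b * ρ a ^ n := fun a ha b hb n =>
    (show Commute (ρ a) (ρ b) from hC a ha b hb).pow_left n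
  have hδs : ∀ a ∈ C, ρ s * (ρ a - ρ a ^ p) = -(ρ a - ρ a ^ p) * ρ s := fun a ha => by
    rw [mul_sub, hσ a ha, hσ' a ha, neg_sub, sub_mul]
  have hδC : ∀ a ∈ C, ∀ b ∈ C, (ρ a - ρ a ^ p) * ρ b = ρ b * (ρ a - ρ a ^ p) := fun a ha b hb => by
    rw [sub_mul, mul_sub, hC a ha b hb, hpowC a ha b hb p]
  obtain ⟨δ, Δ, hδ, hΔ, hspan⟩ := exists_quadratic hp2 hirr (C : Set L) hC hF
    (fun a ha => hcent _ (fun b hb => by rw [add_mul, mul_add, hC a ha b hb, hpowC a ha b hb p])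
      (by rw [mul_add, hσ a ha, hσ' a ha, add_mul, add_comm]))
    (fun a ha b hb => hcent _ (fun c hc => by
        rw [mul_assoc, hδC b hb c hc, ← mul_assoc, hδC a ha c hc, mul_assoc])
      (by rw [← mul_assoc, hδs a ha, mul_assoc, hδs b hb, ← mul_assoc, neg_mul_neg]))
  obtain ⟨v₀, hv₀⟩ := exists_ne (0 : V)
  rcases hδ with hδ0 | ⟨hΔ0, a₀, ha₀, hδa⟩
  · have hsc : ∀ a ∈ C, ∃ α : ZMod p, ∀ w, ρ a w = α • w := fun a ha => by
      obtain ⟨α, β, h⟩ := hspan a ha
      exact ⟨α, fun w => by rw [h, hδ0]; simp⟩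
    refine finrank_le_two hirr hv₀ (ρ s v₀) (fun g => ?_) fun g => ?_
    all_goals rcases hgen g with hg | hg
    · obtain ⟨α, h⟩ := hsc g hg; exact Submodule.mem_span_pair.mpr ⟨α, 0, by simp [h]⟩
    · obtain ⟨α, h⟩ := hsc _ hg
      refine Submodule.mem_span_pair.mpr ⟨0, α, ?_⟩
      rw [zero_smul, zero_add, ← map_smul, ← h, ← End.mul_apply, ← map_mul, mul_inv_cancel_left]
    · obtain ⟨α, h⟩ := hsc g hg; exact Submodule.mem_span_pair.mpr ⟨0, α, by simp [h]⟩
    · obtain ⟨α, h⟩ := hsc _ hg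
      obtain ⟨γ, h'⟩ := hsc _ hs2
      refine Submodule.mem_span_pair.mpr ⟨α * γ, 0, ?_⟩
      rw [zero_smul, add_zero, show ρ g (ρ s v₀) = ρ s (ρ (s⁻¹ * g) (ρ s v₀)) by
        rw [← End.mul_apply (ρ s) (ρ _), ← map_mul, mul_inv_cancel_left], h, map_smul,
        ← End.mul_apply, ← map_mul, h', smul_smul]
  · have hδs' : ρ s * δ = -δ * ρ s := by rw [hδa]; exact hδs a₀ ha₀
    -- the square of `s` is scalar
    obtain ⟨l, hl⟩ : ∃ l : ZMod p, ρ s * ρ s = l • 1 := by
      rw [← map_mul]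
      have hfix : ρ (s * s) ^ p = ρ (s * s) := by
        have h := hσ _ hs2
        rw [← map_mul ρ s, show s * (s * s) = s * s * s by group, map_mul] at h
        calc ρ (s * s) ^ p = ρ (s * s) ^ p * ρ s * ρ s⁻¹ := by rw [mul_assoc, hs', mul_one]
          _ = ρ (s * s) := by rw [← h, mul_assoc, hs', mul_one]
      refine exists_scalar hirr hfix (hcent _ (hC _ hs2) ?_)
      rw [← map_mul, ← map_mul, mul_assoc]
    have hl0 : l ≠ 0 := by
      intro h0
      rw [h0, zero_smul] at hl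
      have : (1 : End (ZMod p) V) = 0 := by
        calc (1 : End (ZMod p) V) = (ρ s⁻¹ * ρ s⁻¹) * (ρ s * ρ s) := by
              rw [mul_assoc, ← mul_assoc (ρ s⁻¹) (ρ s), hs'', one_mul, hs'']
          _ = 0 := by rw [hl, mul_zero]
      exact one_ne_zero this
    obtain ⟨x, y, hxy⟩ : ∃ x y : ZMod p, x * x - Δ * (y * y) = l⁻¹ := by
      obtain ⟨x, y, h⟩ := FiniteField.exists_root_sum_quadratic
        (f := (Polynomial.X ^ 2 : (ZMod p)[X]))
        (g := Polynomial.C (-Δ) * Polynomial.X ^ 2 + Polynomial.C (-l⁻¹))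
        (degree_X_pow 2) (by
          rw [degree_add_C (by rw [degree_C_mul_X_pow 2 (neg_ne_zero.mpr hΔ0)]; norm_num)]
          exact degree_C_mul_X_pow 2 (neg_ne_zero.mpr hΔ0))
        (by rw [ZMod.card]; exact hp.out.odd_of_ne_two hp2 |> Nat.odd_iff.mp)
      refine ⟨x, y, ?_⟩
      simp at h
      linear_combination h
    set m : End (ZMod p) V := x • 1 + y • δ with hm
    set m' : End (ZMod p) V := x • 1 + (-y) • δ with hm'
    have hmm : m * m' = l⁻¹ • 1 := by
      rw [hm, hm', ← hxy]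
      simp only [add_mul, mul_add, smul_mul_smul_comm, one_mul, mul_one, hΔ, smul_smul]
      module
    have hsm : ρ s * m = m' * ρ s := by
      rw [hm, hm', mul_add, add_mul, mul_smul_comm, smul_mul_assoc, mul_one, one_mul, mul_smul_comm,
        hδs', neg_mul, smul_neg, smul_mul_assoc, neg_smul]
    have hee : (m * ρ s) * (m * ρ s) = 1 := by
      rw [mul_assoc, ← mul_assoc (ρ s), hsm, mul_assoc m', hl, ← mul_assoc, hmm, smul_mul_smul_comm,
        mul_one, inv_mul_cancel₀ hl0, one_smul]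
    obtain ⟨v, ε, hv, he⟩ : ∃ v : V, ∃ ε : ZMod p, v ≠ 0 ∧ (m * ρ s) v = ε • v := by
      by_cases h : (m * ρ s) v₀ = - v₀
      · exact ⟨v₀, -1, hv₀, by rw [h, neg_one_smul]⟩
      · refine ⟨(m * ρ s) v₀ + v₀, 1, fun h0 => h (eq_neg_of_add_eq_zero_left h0), ?_⟩
        rw [map_add, ← End.mul_apply (m * ρ s) (m * ρ s), hee, one_smul, add_comm]; simp
    have hm'm : m' * m = l⁻¹ • 1 := by
      rw [← hmm, hm, hm']
      simp only [add_mul, mul_add, smul_mul_smul_comm, one_mul, mul_one, hΔ, smul_smul]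
      module
    have hsv : ρ s v ∈ Submodule.span (ZMod p) {v, δ v} := by
      have h1 : l⁻¹ • ρ s v = ε • m' v := by
        calc l⁻¹ • ρ s v = (m' * m) (ρ s v) := by rw [hm'm]; simp
          _ = m' ((m * ρ s) v) := rfl
          _ = _ := by rw [he, map_smul]
      refine Submodule.mem_span_pair.mpr ⟨l * ε * x, l * ε * (-y), ?_⟩
      calc (l * ε * x) • v + (l * ε * -y) • δ v = l • (ε • m' v) := by rw [hm']; simp [smul_smul]; module
        _ = ρ s v := by rw [← h1, smul_smul, mul_inv_cancel₀ hl0, one_smul]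
    have hδv : δ (δ v) = Δ • v := by rw [← End.mul_apply, hΔ]; simp
    have hδspan : ∀ w ∈ Submodule.span (ZMod p) {v, δ v}, δ w ∈ Submodule.span (ZMod p) {v, δ v} := by
      intro w hw
      obtain ⟨a, b, rfl⟩ := Submodule.mem_span_pair.mp hw
      exact Submodule.mem_span_pair.mpr ⟨b * Δ, a, by simp [hδv, smul_smul, add_comm]⟩
    have hCspan : ∀ a ∈ C, ∀ w ∈ Submodule.span (ZMod p) {v, δ v},
        ρ a w ∈ Submodule.span (ZMod p) {v, δ v} := by
      intro a ha w hw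
      obtain ⟨α, β, h⟩ := hspan a ha
      rw [h]
      exact add_mem (Submodule.smul_mem _ α hw) (Submodule.smul_mem _ β (hδspan w hw))
    have hsspan : ∀ w ∈ Submodule.span (ZMod p) {v, δ v},
        ρ s w ∈ Submodule.span (ZMod p) {v, δ v} := by
      intro w hw
      obtain ⟨a, b, rfl⟩ := Submodule.mem_span_pair.mp hw
      rw [map_add, map_smul, map_smul, ← End.mul_apply (ρ s) δ, hδs']
      exact add_mem (Submodule.smul_mem _ a hsv)
        (Submodule.smul_mem _ b (by simpa using hδspan _ hsv))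
    have hall : ∀ g, ∀ w ∈ Submodule.span (ZMod p) {v, δ v},
        ρ g w ∈ Submodule.span (ZMod p) {v, δ v} := by
      intro g w hw
      rcases hgen g with hg | hg
      · exact hCspan g hg w hw
      · rw [show g = s * (s⁻¹ * g) by group, map_mul]
        exact hsspan _ (hCspan _ hg w hw)
    exact finrank_le_two hirr hv (δ v) (fun g => hall g v (Submodule.subset_span (Set.mem_insert _ _)))
      fun g => hall g _ (Submodule.subset_span (Set.mem_insert_of_mem _ rfl))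

end Cfsg.Agent.ClassTech.RankTwoChief
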