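import Cfsg.Prelude.Def_CaseTheorems
import Cfsg.Agent.OddLocal43.GLTwo
import Cfsg.Agent.Lib.Thompson.PSolvable
import Cfsg.Agent.ClassTech.RankTwoChief.Mod

/-!
Groups with a two-dimensional representation over `ZMod p` not containing `-1`: their irreducible
modules factoring through it have dimension at most two.
-/

set_option autoImplicit false

namespace Cfsg.Agent.ClassTech.RankTwoChief

open Matrix
open scoped commutatorElement

variable {p : ℕ} [hp : Fact p.Prime]

local notation "M2" => Matrix (Fin 2) (Fin 2) (ZMod p)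

/-- Half the trace. -/
noncomputable def half (g : M2) : ZMod p := g.trace / 2

/-- A quarter of the discriminant. -/
noncomputable def disc (g : M2) : ZMod p := half g ^ 2 - g.det

theorem shift_sq (hp2 : p ≠ 2) (g : M2) :
    (g - half g • (1 : M2)) * (g - half g • (1 : M2)) = disc g • (1 : M2) := by
  have h2 := OddLocal43.two_ne_zero_zmod hp2
  ext i j
  fin_cases i <;> fin_cases j <;>
    simp [half, disc, mul_apply, Fin.sum_univ_two, trace_fin_two, det_fin_two] <;> field_simp <;> ring

theorem pow_add_smul (hp2 : p ≠ 2) (g : M2) (c : ZMod p) :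
    (half g • (1 : M2) + c • (g - half g • (1 : M2))) ^ p =
      half g • (1 : M2) + (c * disc g ^ (p / 2)) • (g - half g • (1 : M2)) := by
  obtain ⟨h, hh⟩ := hp.out.odd_of_ne_two hp2
  have hh' : p / 2 = h := by omega
  set e := g - half g • (1 : M2) with he
  have hc : Commute (half g • (1 : M2)) (c • e) := ((Commute.one_left e).smul_left _).smul_right _
  rw [add_pow_char_of_commute _ hc, smul_pow, one_pow, ZMod.pow_card, smul_pow, ZMod.pow_card, hh',
    congrArg (fun n => e ^ n) hh, pow_succ, pow_mul, pow_two, he, shift_sq hp2, smul_pow, one_pow,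
    smul_mul_assoc, one_mul, smul_smul]

theorem pow_prime (hp2 : p ≠ 2) (g : M2) :
    g ^ p = half g • (1 : M2) + disc g ^ (p / 2) • (g - half g • (1 : M2)) := by
  have h := pow_add_smul hp2 g 1
  rwa [one_smul, one_mul, add_sub_cancel] at h

theorem pow_prime_of_disc_eq_zero (hp2 : p ≠ 2) {g : M2} (h : disc g = 0) :
    g ^ p = half g • (1 : M2) := by
  have : p / 2 ≠ 0 := by have := hp.out.two_le; omega
  rw [pow_prime hp2, h, zero_pow this, zero_smul, add_zero]

theorem disc_pow_half_sq (hp2 : p ≠ 2) {g : M2} (h : disc g ≠ 0) :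
    disc g ^ (p / 2) * disc g ^ (p / 2) = 1 := by
  obtain ⟨k, hk⟩ := hp.out.odd_of_ne_two hp2
  rw [← pow_add, show p / 2 + p / 2 = p - 1 by omega, ZMod.pow_card_sub_one_eq_one h]

theorem pow_sq_of_disc_ne_zero (hp2 : p ≠ 2) {g : M2} (h : disc g ≠ 0) : (g ^ p) ^ p = g := by
  rw [pow_prime hp2 g, pow_add_smul hp2, disc_pow_half_sq hp2 h, one_smul, add_sub_cancel]

theorem disc_affine (hp2 : p ≠ 2) (g : M2) (a b : ZMod p) :
    disc (a • (1 : M2) + b • g) = b ^ 2 * disc g := by
  have h2 := OddLocal43.two_ne_zero_zmod hp2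
  simp [disc, half, OddLocal43.det_affine, OddLocal43.trace_affine]
  field_simp
  ring

/-- A conjugate commuting with a regular semisimple matrix is the matrix or its companion. -/
theorem eq_or_eq_companion (hp2 : p ≠ 2) {b y : M2} (hb : ¬ OddLocal43.IsScalarMat b)
    (hD : disc b ≠ 0) (hc : b * y = y * b) (ht : y.trace = b.trace) (hd : y.det = b.det) :
    y = b ∨ y = b.trace • (1 : M2) - b := by
  have h2 := OddLocal43.two_ne_zero_zmod hp2
  obtain ⟨a, c, rfl⟩ := OddLocal43.exists_eq_add_smul_of_commute hb hc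
  rw [OddLocal43.trace_affine] at ht
  rw [OddLocal43.det_affine] at hd
  have ha : a = (1 - c) * b.trace / 2 := by field_simp; linear_combination ht
  have h1 : (1 - c ^ 2) * disc b = 0 := by
    rw [ha] at hd
    simp only [disc, half]
    field_simp at hd ⊢
    linear_combination hd
  rcases sq_eq_one_iff.mp (show c ^ 2 = 1 by
    linear_combination -((mul_eq_zero.mp h1).resolve_right hD)) with rfl | rfl
  · exact Or.inl (by rw [ha]; simp)
  · refine Or.inr ?_
    rw [show a = b.trace by rw [ha]; field_simp; ring, neg_smul, one_smul, sub_eq_add_neg]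

theorem mul_companion (b : M2) : b * (b.trace • (1 : M2) - b) = b.det • (1 : M2) := by
  ext i j
  fin_cases i <;> fin_cases j <;>
    simp [mul_apply, Fin.sum_univ_two, trace_fin_two, det_fin_two] <;> ring

section Group

variable {B : Type*} [Group B] (f : B →* GL (Fin 2) (ZMod p))

/-- The matrix of an element. -/
abbrev mat (b : B) : M2 := ((f b : GL (Fin 2) (ZMod p)) : M2)

theorem mat_inj (hf : Function.Injective f) {a b : B} (h : mat f a = mat f b) : a = b :=
  hf (Units.ext h)

theorem mat_mul (a b : B) : mat f (a * b) = mat f a * mat f b := by simp [mat]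

theorem mat_one : mat f 1 = 1 := by simp [mat]

theorem mat_pow (a : B) (n : ℕ) : mat f (a ^ n) = mat f a ^ n := by simp [mat]

variable {f}

theorem commute_of_commute (hf : Function.Injective f) {b x y : B}
    (hb : ¬ OddLocal43.IsScalarMat (mat f b)) (hx : Commute b x) (hy : Commute b y) : Commute x y := by
  refine mat_inj f hf ?_
  rw [mat_mul, mat_mul]
  exact OddLocal43.commute_of_commute_nonscalar hb (by rw [← mat_mul, ← mat_mul, hx.eq])
    (by rw [← mat_mul, ← mat_mul, hy.eq])

theorem eq_one_of_scalar [Finite B] (hf : Function.Injective f) (hodd : Odd (Nat.card B))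
    {b : B} (hd : (mat f b).det = 1) (hs : OddLocal43.IsScalarMat (mat f b)) : b = 1 := by
  refine OddLocal43.eq_one_of_sq_eq_one hodd (mat_inj f hf ?_)
  have h := OddLocal43.eq_smul_one_of_isScalarMat hs
  rw [h] at hd
  simp at hd
  have hd' : mat f b 0 0 * mat f b 0 0 = 1 := by rcases hd with h' | h' <;> rw [h'] <;> ring
  rw [mat_one, pow_two, mat_mul, h, smul_mul_smul_comm, mul_one, hd', one_smul]

/-- Conjugation by `g` fixes or inverts a determinant one regular semisimple element commuting with its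
conjugate. -/
theorem conj_eq_or_inv (hp2 : p ≠ 2) (hf : Function.Injective f) {g b : B}
    (hb : ¬ OddLocal43.IsScalarMat (mat f b)) (hD : disc (mat f b) ≠ 0) (hd : (mat f b).det = 1)
    (hc : Commute b (g * b * g⁻¹)) : g * b * g⁻¹ = b ∨ g * b * g⁻¹ = b⁻¹ := by
  have hg : mat f (g * b * g⁻¹) =
      (f g : GL (Fin 2) (ZMod p)).val * mat f b * ((f g)⁻¹ : GL (Fin 2) (ZMod p)).val := by
    simp [mat]
  rcases eq_or_eq_companion (y := mat f (g * b * g⁻¹)) hp2 hb hD (by rw [← mat_mul, ← mat_mul, hc.eq])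
    (by rw [hg]; exact trace_units_conj (f g) _) (by rw [hg]; exact det_units_conj (f g) _) with h | h
  · exact Or.inl (mat_inj f hf h)
  · refine Or.inr (eq_inv_of_mul_eq_one_right (mat_inj f hf ?_))
    rw [mat_mul, h, mul_companion, hd, one_smul, mat_one]

theorem disc_ne_zero [Finite B] (hp2 : p ≠ 2) (hf : Function.Injective f) (hodd : Odd (Nat.card B))
    {b : B} (hd : (mat f b).det = 1) (h : b ^ p ≠ 1) : disc (mat f b) ≠ 0 := by
  intro hD
  apply h
  have hx : half (mat f b) ^ 2 = 1 := by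
    have : disc (mat f b) = 0 := hD
    simp only [disc, hd, sub_eq_zero] at this
    exact this
  refine OddLocal43.eq_one_of_sq_eq_one hodd (mat_inj f hf ?_)
  rw [mat_one, pow_two, mat_mul, mat_pow, pow_prime_of_disc_eq_zero hp2 hD, smul_mul_smul_comm,
    mul_one, ← pow_two, hx, one_smul]

/-- A group of odd order prime to `p` inside the special linear group is commutative. -/
theorem commute_of_odd_coprime [Finite B] (hp2 : p ≠ 2) (hf : Function.Injective f)
    (hodd : Odd (Nat.card B)) (hdet : ∀ b, (mat f b).det = 1) (hcop : ¬ p ∣ Nat.card B) (a c : B) :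
    Commute a c := by
  classical
  rw [commute_iff_eq, ← commutatorElement_eq_one_iff_mul_comm, ← orderOf_eq_one_iff]
  refine Nat.eq_one_iff_not_exists_prime_dvd.mpr fun q hq hqd => ?_
  haveI : Fact q.Prime := ⟨hq⟩
  obtain ⟨P⟩ : Nonempty (Sylow q B) := inferInstance
  have hqp : q ≠ p := fun h => hcop (h ▸ hqd.trans (orderOf_dvd_natCard _))
  -- the Sylow subgroup is abelian
  haveI : Group.IsNilpotent (P : Subgroup B) := P.isPGroup'.isNilpotent
  have hcomm : commutator (P : Subgroup B) = ⊥ := by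
    have h1 : IsPGroup p (commutator (P : Subgroup B)) :=
      OddLocal43.isPGroup_commutator_of_GL_two hp2
        (hodd.of_dvd_nat (Subgroup.card_subgroup_dvd_card _)) (f.comp (P : Subgroup B).subtype)
        (hf.comp (P : Subgroup B).subtype_injective)
    have h2 : IsPGroup q (commutator (P : Subgroup B)) := P.isPGroup'.to_subgroup _
    obtain ⟨m, hm⟩ := IsPGroup.iff_card.mp h1
    obtain ⟨n, hn⟩ := IsPGroup.iff_card.mp h2
    refine Subgroup.eq_bot_of_card_eq _ ?_
    refine Nat.eq_one_of_dvd_coprimes (a := p ^ m) (b := q ^ n) ?_ hm.dvd hn.dvd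
    exact Nat.Coprime.pow _ _ ((Nat.coprime_primes hp.out hq).mpr hqp.symm)
  have hab : ∀ u v : (P : Subgroup B), u * v = v * u := fun u v => by
    rw [← commutatorElement_eq_one_iff_mul_comm, ← Subgroup.mem_bot, ← hcomm, commutator_def]
    exact Subgroup.commutator_mem_commutator trivial trivial
  have hN : Subgroup.normalizer ((P : Subgroup B) : Set B) ≤
      Subgroup.centralizer ((P : Subgroup B) : Set B) := by
    intro g hg
    refine Subgroup.mem_centralizer_iff.mpr fun b hb => ?_
    rcases eq_or_ne b 1 with rfl | hb1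
    · simp
    have hns : ¬ OddLocal43.IsScalarMat (mat f b) := fun h => hb1 (eq_one_of_scalar hf hodd (hdet b) h)
    have hbp : b ^ p ≠ 1 := by
      intro h
      rcases (Nat.dvd_prime hp.out).mp (orderOf_dvd_of_pow_eq_one h) with h1 | h1
      · exact hb1 (orderOf_eq_one_iff.mp h1)
      · exact hcop (h1 ▸ orderOf_dvd_natCard b)
    have hgb : g * b * g⁻¹ ∈ (P : Subgroup B) := (Subgroup.mem_normalizer_iff.mp hg b).mp hb
    have hc : Commute b (g * b * g⁻¹) := congrArg Subtype.val (hab ⟨b, hb⟩ ⟨_, hgb⟩)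
    have h2 : Commute (g ^ 2) b := by
      rcases conj_eq_or_inv hp2 hf hns (disc_ne_zero hp2 hf hodd (hdet b) hbp) (hdet b) hc with h | h
      · exact Commute.pow_left (mul_inv_eq_iff_eq_mul.mp h) 2
      · have h' : g * (g * b * g⁻¹) * g⁻¹ = b := by
          rw [h, show g * b⁻¹ * g⁻¹ = (g * b * g⁻¹)⁻¹ by group, h, inv_inv]
        refine mul_inv_eq_iff_eq_mul.mp ?_
        simpa [pow_two, mul_assoc] using h'
    obtain ⟨m, hm⟩ := exists_pow_eq_self_of_coprime (x := g) (n := 2)
      (Nat.coprime_two_left.mpr (hodd.of_dvd_nat (orderOf_dvd_natCard g)))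
    have h3 := h2.pow_left m
    rw [hm] at h3
    exact h3.eq.symm
  have hker : ⁅a, c⁆ ∈ (MonoidHom.transferSylow P hN).ker := by
    rw [MonoidHom.mem_ker, map_commutatorElement, commutatorElement_eq_one_iff_mul_comm]
    exact hab _ _
  exact MonoidHom.not_dvd_card_ker_transferSylow P hN
    (hqd.trans (Subgroup.orderOf_dvd_natCard _ hker))

end Group

theorem not_sq_dvd_card_GL_two : ¬ p ^ 2 ∣ Nat.card (GL (Fin 2) (ZMod p)) := by
  rw [card_GL_field (𝔽 := ZMod p) (n := 2), Fin.prod_univ_two, ZMod.card]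
  simp only [Fin.val_zero, pow_zero, Fin.val_one, pow_one]
  have h2 : p ^ 2 - p = p * (p - 1) := by rw [pow_two, Nat.mul_sub, mul_one]
  rw [h2, show (p ^ 2 - 1) * (p * (p - 1)) = p * ((p ^ 2 - 1) * (p - 1)) by ring,
    show p ^ 2 = p * p from pow_two p, Nat.mul_dvd_mul_iff_left hp.out.pos]
  have := hp.out.two_le
  intro h
  rcases hp.out.dvd_mul.mp h with h | h
  · have h4 : p ∣ p * p := dvd_mul_right p p
    have h5 := Nat.dvd_sub h4 h
    rw [Nat.sub_sub_self (by nlinarith : 1 ≤ p * p)] at h5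
    exact hp.out.ne_one (Nat.dvd_one.mp h5)
  · exact absurd (Nat.le_of_dvd (by omega) h) (by omega)

/-- Without `-1`, every element of order `p` lies in the `p`-core. -/
theorem mem_pCore_of_pow_eq_one {X : Type*} [Group X] [Finite X] (hp2 : p ≠ 2)
    (hs : Cfsg.IsPSolvable p X) (f : X →* GL (Fin 2) (ZMod p)) (hf : Function.Injective f)
    (hodd : ∀ Y : Subgroup X, (∀ y ∈ Y, (mat f y).det = 1) → Odd (Nat.card Y)) {u : X}
    (hu : u ^ p = 1) : u ∈ Cfsg.pCore p X := by
  classical
  rcases eq_or_ne u 1 with rfl | hu1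
  · exact one_mem _
  set d : X →* (ZMod p)ˣ := (Matrix.GeneralLinearGroup.det).comp f with hd
  set X1 := d.ker with hX1
  have hdet : ∀ y : X1, (mat (f.comp X1.subtype) y).det = 1 := fun y => by
    have h := congrArg Units.val (MonoidHom.mem_ker.mp y.2)
    simpa [hd, mat] using h
  have hodd1 : Odd (Nat.card X1) := hodd X1 fun y hy => hdet ⟨y, hy⟩
  have hf1 : Function.Injective (f.comp X1.subtype) := hf.comp X1.subtype_injective
  have huX1 : u ∈ X1 := by
    rw [hX1, MonoidHom.mem_ker]
    have h := congrArg d hu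
    rw [map_pow, map_one] at h
    refine Units.ext ?_
    have h' := congrArg Units.val h
    rwa [Units.val_pow_eq_pow_val, ZMod.pow_card, Units.val_one] at h'
  set u1 : X1 := ⟨u, huX1⟩ with hu1d
  have hu1' : u1 ^ p = 1 := Subtype.ext hu
  have hu1ne : u1 ≠ 1 := fun h => hu1 (congrArg Subtype.val h)
  set Q := Cfsg.pPrimeCore p X1 with hQ
  have hQbot : Q = ⊥ := by
    by_contra hne
    obtain ⟨b, hb, hb1⟩ := (Subgroup.ne_bot_iff_exists_ne_one.mp hne |> fun ⟨x, hx⟩ =>
      ⟨(x : X1), x.2, fun h => hx (Subtype.ext h)⟩ : ∃ b ∈ Q, b ≠ 1)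
    have hQp : ¬ p ∣ Nat.card Q := fun h =>
      (hp.out.coprime_iff_not_dvd.mp Thompson.card_pPrimeCore_coprime.symm) h
    have hns : ¬ OddLocal43.IsScalarMat (mat (f.comp X1.subtype) b) := fun h =>
      hb1 (eq_one_of_scalar hf1 hodd1 (hdet b) h)
    have hbp : b ^ p ≠ 1 := by
      intro h
      rcases (Nat.dvd_prime hp.out).mp (orderOf_dvd_of_pow_eq_one h) with h1 | h1
      · exact hb1 (orderOf_eq_one_iff.mp h1)
      · exact hQp (h1 ▸ Subgroup.orderOf_dvd_natCard Q hb)
    have hD := disc_ne_zero hp2 hf1 hodd1 (hdet b) hbp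
    have hconjQ : u1 * b * u1⁻¹ ∈ Q := (inferInstance : Q.Normal).conj_mem b hb u1
    have hc : Commute b (u1 * b * u1⁻¹) := congrArg Subtype.val
      (commute_of_odd_coprime hp2 (f := (f.comp X1.subtype).comp Q.subtype)
        (hf1.comp Q.subtype_injective) (hodd1.of_dvd_nat (Subgroup.card_subgroup_dvd_card _))
        (fun y => hdet y) hQp ⟨b, hb⟩ ⟨_, hconjQ⟩).eq
    have h2 : Commute (u1 ^ 2) b := by
      rcases conj_eq_or_inv hp2 hf1 hns hD (hdet b) hc with h | h
      · exact Commute.pow_left (mul_inv_eq_iff_eq_mul.mp h) 2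
      · have h' : u1 * (u1 * b * u1⁻¹) * u1⁻¹ = b := by
          rw [h, show u1 * b⁻¹ * u1⁻¹ = (u1 * b * u1⁻¹)⁻¹ by group, h, inv_inv]
        refine mul_inv_eq_iff_eq_mul.mp ?_
        simpa [pow_two, mul_assoc] using h'
    obtain ⟨m, hm⟩ := exists_pow_eq_self_of_coprime (x := u1) (n := 2)
      (Nat.coprime_two_left.mpr (hodd1.of_dvd_nat (orderOf_dvd_natCard u1)))
    have h3 := h2.pow_left m
    rw [hm] at h3
    obtain ⟨α, β, hab⟩ := OddLocal43.exists_eq_add_smul_of_commute hns
      (show mat (f.comp X1.subtype) b * mat (f.comp X1.subtype) u1 =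
        mat (f.comp X1.subtype) u1 * mat (f.comp X1.subtype) b by
        rw [← mat_mul, ← mat_mul, h3.eq])
    apply hu1ne
    by_cases hβ : β = 0
    · refine eq_one_of_scalar hf1 hodd1 (hdet u1) ?_
      rw [hab, hβ]
      simp [OddLocal43.IsScalarMat]
    · have hDu : disc (mat (f.comp X1.subtype) u1) ≠ 0 := by
        rw [hab, disc_affine hp2]
        exact mul_ne_zero (pow_ne_zero 2 hβ) hD
      refine mat_inj _ hf1 ?_
      rw [mat_one, ← pow_sq_of_disc_ne_zero hp2 hDu, ← mat_pow, ← mat_pow, hu1', one_pow, mat_one]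
  haveI : Nontrivial X1 := ⟨u1, 1, hu1ne⟩
  have hcore : Cfsg.pCore p X1 ≠ ⊥ :=
    (Thompson.pCore_ne_bot_or_pPrimeCore_ne_bot (Thompson.isPSolvable_subgroup X1 hs)).resolve_right
      (fun h => h hQbot)
  set O := (Cfsg.pCore p X1).map X1.subtype with hO
  have hOp : IsPGroup p O := (Thompson.isPGroup_pCore).map _
  haveI : X1.Normal := MonoidHom.normal_ker d
  haveI : (Cfsg.pCore p X1).Characteristic := inferInstance
  have hOn : O.Normal := inferInstance
  have hOle : O ≤ Cfsg.pCore p X := Thompson.le_pCore hOn hOp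
  have hne : Cfsg.pCore p X ≠ ⊥ := fun h => hcore (by
    have : O ≤ ⊥ := h ▸ hOle
    rwa [le_bot_iff, hO, Subgroup.map_eq_bot_iff_of_injective _ X1.subtype_injective] at this)
  have hZp : IsPGroup p (Subgroup.zpowers u) :=
    IsPGroup.of_card (n := 1) (by rw [Nat.card_zpowers, pow_one, orderOf_eq_prime hu hu1])
  have hsup : IsPGroup p ↥(Cfsg.pCore p X ⊔ Subgroup.zpowers u) :=
    (Thompson.isPGroup_pCore).to_sup_of_normal_left hZp
  obtain ⟨k, hk⟩ := IsPGroup.iff_card.mp hsup
  have hk1 : k ≤ 1 := by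
    by_contra hk1
    refine not_sq_dvd_card_GL_two (p := p) ((pow_dvd_pow p (show 2 ≤ k by omega)).trans ?_)
    rw [← hk]
    exact (Subgroup.card_subgroup_dvd_card _).trans (Subgroup.card_dvd_of_injective f hf)
  have heq : Cfsg.pCore p X = Cfsg.pCore p X ⊔ Subgroup.zpowers u := by
    refine Subgroup.eq_of_le_of_card_ge le_sup_left ?_
    obtain ⟨n, hn⟩ := IsPGroup.iff_card.mp (Thompson.isPGroup_pCore (p := p) (G := X))
    rcases n with _ | n
    · exact absurd ((Cfsg.pCore p X).eq_bot_of_card_eq (by simpa using hn)) hne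
    · rw [hk, hn]
      exact Nat.pow_le_pow_right hp.out.pos (by omega)
  rw [heq]
  exact Subgroup.mem_sup_right (Subgroup.mem_zpowers u)

theorem odd_card_of_no_neg_one {X : Type*} [Group X] [Finite X] (hp2 : p ≠ 2)
    (f : X →* GL (Fin 2) (ZMod p)) (hf : Function.Injective f) (hm1 : ∀ x, mat f x ≠ -1)
    (Y : Subgroup X) (hY : ∀ y ∈ Y, (mat f y).det = 1) : Odd (Nat.card Y) := by
  rcases Nat.even_or_odd (Nat.card Y) with he | ho
  swap
  · exact ho
  exfalso
  haveI : Fact (Nat.Prime 2) := ⟨Nat.prime_two⟩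
  obtain ⟨t, ht⟩ := exists_prime_orderOf_dvd_card' 2 (even_iff_two_dvd.mp he)
  have h2 := OddLocal43.two_ne_zero_zmod hp2
  have htt : mat f (t : X) * mat f (t : X) = 1 := by
    rw [← mat_mul, ← pow_two, ← Subgroup.coe_pow, orderOf_dvd_iff_pow_eq_one.mp ht.dvd,
      Subgroup.coe_one, mat_one]
  have hcomp := mul_companion (mat f (t : X))
  rw [mul_sub, htt, mul_smul_comm, mul_one, hY _ t.2, one_smul, sub_eq_iff_eq_add, ← two_smul (ZMod p)]
    at hcomp
  have htr : (mat f (t : X)).trace ≠ 0 := by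
    intro h0
    rw [h0, zero_smul] at hcomp
    exact h2 (by simpa using (congrFun (congrFun hcomp 0) 0).symm)
  have ht' : mat f (t : X) = (2 / (mat f (t : X)).trace) • (1 : M2) := by
    rw [div_eq_inv_mul, ← smul_smul, ← hcomp, smul_smul, inv_mul_cancel₀ htr, one_smul]
  set c := 2 / (mat f (t : X)).trace
  have hc : c * c = 1 := by
    have h := hY _ t.2
    rw [ht'] at h
    simpa [pow_two] using h
  rcases mul_self_eq_one_iff.mp hc with h | h
  · have : (t : X) = 1 := mat_inj f hf (by rw [ht', h, one_smul, mat_one])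
    have : t = 1 := Subtype.ext this
    rw [this, orderOf_one] at ht
    omega
  · exact hm1 t (by rw [ht', h, neg_smul, one_smul])

/-- The module bound when `-1` is not in the image. -/
theorem finrank_le_two_of_no_neg_one {L : Type*} [Group L] [Finite L] {V : Type*} [AddCommGroup V]
    [Module (ZMod p) V] [Nontrivial V] [FiniteDimensional (ZMod p) V] (hp2 : p ≠ 2)
    (hs : Cfsg.IsPSolvable p L) (ψ : L →* GL (Fin 2) (ZMod p)) (hm1 : ∀ g, mat ψ g ≠ -1)
    (ρ : L →* Module.End (ZMod p) V) (hirr : Irred ρ)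
    (hJ : ∀ J : Subgroup L, J.Normal → IsPGroup p (J.map ψ) → ∀ g ∈ J, ρ g = 1) :
    Module.finrank (ZMod p) V ≤ 2 := by
  classical
  set X := ψ.range with hX
  set f := X.subtype with hfdef
  have hf : Function.Injective f := X.subtype_injective
  set π := ψ.rangeRestrict with hπ
  have hsX : Cfsg.IsPSolvable p X :=
    Thompson.isPSolvable_of_surjective π ψ.rangeRestrict_surjective hs
  have hm1' : ∀ x : X, mat f x ≠ -1 := by
    rintro ⟨_, g, rfl⟩
    exact hm1 g
  have hodd := odd_card_of_no_neg_one hp2 f hf hm1'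
  have hu := fun u => mem_pCore_of_pow_eq_one hp2 hsX f hf hodd (u := u)
  set J := (Cfsg.pCore p X).comap π with hJdef
  have hJ1 : ∀ g ∈ J, ρ g = 1 := by
    refine hJ J inferInstance ?_
    have : J.map ψ = (Cfsg.pCore p X).map X.subtype := by
      calc J.map ψ = ((Cfsg.pCore p X).comap π).map (X.subtype.comp π) := rfl
        _ = _ := by rw [← Subgroup.map_map,
          Subgroup.map_comap_eq_self_of_surjective ψ.rangeRestrict_surjective]
    rw [this]
    exact (Thompson.isPGroup_pCore).map _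
  have hρeq : ∀ g h, π g = π h → ρ g = ρ h := by
    intro g h he
    have h1 : g⁻¹ * h ∈ J := by
      rw [hJdef, Subgroup.mem_comap, map_mul, map_inv, he, inv_mul_cancel]
      exact one_mem _
    rw [show h = g * (g⁻¹ * h) by group, map_mul ρ g, hJ1 _ h1, mul_one]
  -- fixed by the square of Frobenius
  have hF : ∀ g, (ρ g ^ p) ^ p = ρ g := by
    intro g
    by_cases hD : disc (mat f (π g)) = 0
    · have hx0 : half (mat f (π g)) ≠ 0 := by
        intro h0
        have h1 := pow_prime_of_disc_eq_zero hp2 hD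
        rw [h0, zero_smul, ← mat_pow] at h1
        exact (f (π g ^ p)).ne_zero h1
      have h1 : (π (g ^ (p - 1))) ^ p = 1 := by
        refine mat_inj f hf ?_
        rw [← map_pow, ← pow_mul, map_pow, mat_one, mat_pow, mul_comm, pow_mul,
          pow_prime_of_disc_eq_zero hp2 hD, smul_pow, one_pow,
          ZMod.pow_card_sub_one_eq_one hx0, one_smul]
      have h2 : ρ g ^ (p - 1) = 1 := by rw [← map_pow]; exact hJ1 _ (hu _ h1)
      have h3 : ρ g ^ p = ρ g := by
        calc ρ g ^ p = ρ g ^ (p - 1 + 1) := congrArg _ (by have := hp.out.two_le; omega)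
          _ = ρ g := by rw [pow_succ, h2, one_mul]
      rw [h3, h3]
    · rw [← map_pow, ← map_pow]
      refine hρeq _ _ (mat_inj f hf ?_)
      rw [map_pow, map_pow, mat_pow, mat_pow, pow_sq_of_disc_ne_zero hp2 hD]
  have hcomm : ∀ g h, π ⁅g, h⁆ ∈ Cfsg.pCore p X → ρ g * ρ h = ρ h * ρ g := fun g h hgh => by
    rw [← map_mul, ← map_mul, show g * h = ⁅g, h⁆ * (h * g) by rw [commutatorElement_def]; group,
      map_mul ρ ⁅g, h⁆, hJ1 _ hgh, one_mul]
  have hdetc : ∀ x y : X, (mat f ⁅x, y⁆).det = 1 := fun x y => by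
    have : Matrix.GeneralLinearGroup.det (f ⁅x, y⁆) = 1 := by
      rw [map_commutatorElement, map_commutatorElement, commutatorElement_eq_one_iff_mul_comm, mul_comm]
    have h := congrArg Units.val this
    rw [Matrix.GeneralLinearGroup.val_det_apply, Units.val_one] at h
    exact h
  by_cases hex : ∃ u : X, u ^ p = 1 ∧ u ≠ 1
  · -- a normal subgroup of order `p`
    obtain ⟨u, hup, hu1⟩ := hex
    refine finrank_le_two_of_comm hp2 hirr (fun g h => hcomm g h ?_) hF
    set P := Cfsg.pCore p X with hP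
    have hPu : P = Subgroup.zpowers u := by
      symm
      refine Subgroup.eq_of_le_of_card_ge ((Subgroup.zpowers_le).mpr (hu u hup)) ?_
      rw [Nat.card_zpowers, orderOf_eq_prime hup hu1]
      obtain ⟨k, hk⟩ := IsPGroup.iff_card.mp (Thompson.isPGroup_pCore (p := p) (G := X))
      rw [hP, hk]
      by_contra hlt
      refine not_sq_dvd_card_GL_two (p := p) ((pow_dvd_pow p (show 2 ≤ k from ?_)).trans ?_)
      · by_contra h2
        exact hlt (le_trans (Nat.pow_le_pow_right hp.out.pos (by omega : k ≤ 1)) (pow_one p).le)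
      · rw [← hk]
        exact (Subgroup.card_subgroup_dvd_card _).trans (Subgroup.card_dvd_of_injective f hf)
    have hconj : ∀ x : X, ∃ i : ℤ, x * u * x⁻¹ = u ^ i := by
      intro x
      have h1 : x * u * x⁻¹ ∈ P := (inferInstance : P.Normal).conj_mem u (hu u hup) x
      rw [hPu] at h1
      obtain ⟨i, hi⟩ := Subgroup.mem_zpowers_iff.mp h1
      exact ⟨i, hi.symm⟩
    rw [map_commutatorElement]
    set x := π g
    set y := π h
    have hcu : Commute u ⁅x, y⁆ := by
      obtain ⟨i, hi⟩ := hconj x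
      obtain ⟨j, hj⟩ := hconj y
      have e : ∀ (z : X) (k : ℤ), z * u ^ k * z⁻¹ = (z * u * z⁻¹) ^ k := fun z k => conj_zpow.symm
      have h2 : x * y * u * (x * y)⁻¹ = y * x * u * (y * x)⁻¹ := by
        rw [show x * y * u * (x * y)⁻¹ = x * (y * u * y⁻¹) * x⁻¹ by group, hj, e, hi, ← _root_.zpow_mul,
          show y * x * u * (y * x)⁻¹ = y * (x * u * x⁻¹) * y⁻¹ by group, hi, e, hj, ← _root_.zpow_mul,
          mul_comm]
      have e4 := congrArg (fun w => (x * y) * ((y * x)⁻¹ * w * (y * x)) * (x * y)⁻¹) h2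
      have h3 : ⁅x, y⁆ * (x * y * u * (x * y)⁻¹) * ⁅x, y⁆⁻¹ = x * y * u * (x * y)⁻¹ := by
        simpa [commutatorElement_def, mul_assoc] using e4
      have hgen : u ∈ Subgroup.zpowers (x * y * u * (x * y)⁻¹) := by
        have h1 : Subgroup.zpowers (x * y * u * (x * y)⁻¹) = Subgroup.zpowers u := by
          refine Subgroup.eq_of_le_of_card_ge ?_ ?_
          · rw [Subgroup.zpowers_le, ← hPu]
            exact (inferInstance : P.Normal).conj_mem u (hu u hup) _
          · rw [Nat.card_zpowers, Nat.card_zpowers, ← MulAut.conj_apply, MulEquiv.orderOf_eq]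
        rw [h1]; exact Subgroup.mem_zpowers u
      obtain ⟨k, hk⟩ := Subgroup.mem_zpowers_iff.mp hgen
      rw [← hk]
      exact ((show Commute (x * y * u * (x * y)⁻¹) ⁅x, y⁆ from
        (mul_inv_eq_iff_eq_mul.mp h3).symm)).zpow_left k
    have hns : ¬ OddLocal43.IsScalarMat (mat f u) := by
      intro hsc
      apply hu1
      refine mat_inj f hf ?_
      have h1 := OddLocal43.eq_smul_one_of_isScalarMat hsc
      have h2 : mat f u ^ p = 1 := by rw [← mat_pow, hup, mat_one]
      rw [h1, smul_pow, one_pow, ZMod.pow_card] at h2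
      rw [h1, h2, mat_one]
    obtain ⟨α, β, hw⟩ := OddLocal43.exists_eq_add_smul_of_commute hns
      (show mat f u * mat f ⁅x, y⁆ = mat f ⁅x, y⁆ * mat f u by rw [← mat_mul, ← mat_mul, hcu.eq])
    refine hu _ ?_
    have hDu : disc (mat f u) = 0 := by
      by_contra hD
      apply hu1
      refine mat_inj f hf ?_
      rw [mat_one, ← pow_sq_of_disc_ne_zero hp2 hD, ← mat_pow, hup, mat_one, one_pow]
    have hDw : disc (mat f ⁅x, y⁆) = 0 := by rw [hw, disc_affine hp2, hDu, mul_zero]
    have hd := hdetc x y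
    have hsq : half (mat f ⁅x, y⁆) ^ 2 = 1 := by
      have := hDw
      simp only [disc, hd, sub_eq_zero] at this
      exact this
    refine mat_inj f hf ?_
    rw [mat_pow, pow_prime_of_disc_eq_zero hp2 hDw, mat_one]
    rcases sq_eq_one_iff.mp hsq with h1 | h1
    · rw [h1, one_smul]
    · exfalso
      refine hm1' (⁅x, y⁆ ^ p) ?_
      rw [mat_pow, pow_prime_of_disc_eq_zero hp2 hDw, h1, neg_smul, one_smul]
  · -- order prime to `p`
    push Not at hex
    have hpX : ¬ p ∣ Nat.card X := by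
      intro h
      obtain ⟨u, hu'⟩ := exists_prime_orderOf_dvd_card' p h
      have := hex u (orderOf_dvd_iff_pow_eq_one.mp hu'.dvd)
      rw [this, orderOf_one] at hu'
      exact hp.out.ne_one hu'.symm
    set X1 := ((Matrix.GeneralLinearGroup.det).comp f).ker with hX1
    have hdet1 : ∀ y ∈ X1, (mat f y).det = 1 := fun y hy => by
      simpa [mat] using congrArg Units.val (MonoidHom.mem_ker.mp hy)
    have hodd1 := hodd X1 hdet1
    have hcX1 : ∀ x y : X, ⁅x, y⁆ ∈ X1 := fun x y => by
      rw [hX1, MonoidHom.mem_ker, MonoidHom.comp_apply]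
      exact Units.ext (by rw [Matrix.GeneralLinearGroup.val_det_apply, Units.val_one]; exact hdetc x y)
    have hab1 : ∀ a c : X1, Commute a c := commute_of_odd_coprime hp2 (f := f.comp X1.subtype)
      (hf.comp X1.subtype_injective) hodd1 (fun y => hdet1 y y.2)
      fun h => hpX (h.trans (Subgroup.card_subgroup_dvd_card _))
    by_cases hX1b : X1 = ⊥
    · refine finrank_le_two_of_comm hp2 hirr (fun g h => hcomm g h ?_) hF
      rw [map_commutatorElement]
      have := hcX1 (π g) (π h)
      rw [hX1b, Subgroup.mem_bot] at this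
      rw [this]
      exact one_mem _
    obtain ⟨⟨b, hbX1⟩, hb1⟩ := Subgroup.ne_bot_iff_exists_ne_one.mp hX1b
    have hns : ¬ OddLocal43.IsScalarMat (mat f b) := fun h =>
      hb1 (eq_one_of_scalar (f := f.comp X1.subtype) (hf.comp X1.subtype_injective) hodd1
        (hdet1 b hbX1) h)
    have hD : disc (mat f b) ≠ 0 := disc_ne_zero (f := f.comp X1.subtype) hp2
      (hf.comp X1.subtype_injective) hodd1 (b := ⟨b, hbX1⟩) (hdet1 b hbX1) fun h =>
        hb1 (Subtype.ext (hex b (congrArg Subtype.val h)))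
    have hdich : ∀ x : X, x * b * x⁻¹ = b ∨ x * b * x⁻¹ = b⁻¹ := fun x => by
      refine conj_eq_or_inv hp2 hf hns hD (hdet1 b hbX1) ?_
      have hmem : x * b * x⁻¹ ∈ X1 := (MonoidHom.normal_ker _).conj_mem b hbX1 x
      exact congrArg Subtype.val (hab1 ⟨b, hbX1⟩ ⟨_, hmem⟩).eq
    set C : Subgroup L := (Subgroup.centralizer ({b} : Set X)).comap π with hC
    have hmemC : ∀ a, a ∈ C ↔ Commute b (π a) := fun a => by
      rw [hC, Subgroup.mem_comap, Subgroup.mem_centralizer_singleton_iff]
      exact ⟨fun h => h.symm, fun h => h.symm⟩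
    have hCc : ∀ a ∈ C, ∀ c ∈ C, ρ a * ρ c = ρ c * ρ a := fun a ha c hc => by
      rw [← map_mul, ← map_mul]
      refine hρeq _ _ ?_
      rw [map_mul, map_mul]
      exact (commute_of_commute hf hns ((hmemC a).mp ha) ((hmemC c).mp hc)).eq
    by_cases hall : ∀ a, a ∈ C
    · exact finrank_le_two_of_comm hp2 hirr (fun g h => hCc g (hall g) h (hall h)) hF
    push Not at hall
    obtain ⟨s, hsC⟩ := hall
    have hnot : ∀ g, g ∉ C → π g * b * (π g)⁻¹ = b⁻¹ := fun g hg =>
      (hdich (π g)).resolve_left fun h => hg ((hmemC g).mpr (mul_inv_eq_iff_eq_mul.mp h).symm)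
    have hsb := hnot s hsC
    have hsb' : (π s)⁻¹ * b * π s = b⁻¹ := by
      have h := congrArg (fun w => (π s)⁻¹ * w⁻¹ * π s) hsb
      simpa [mul_assoc] using h.symm
    have hgen : ∀ g, g ∈ C ∨ s⁻¹ * g ∈ C := fun g => by
      by_cases hg : g ∈ C
      · exact Or.inl hg
      refine Or.inr ((hmemC _).mpr ?_)
      refine (mul_inv_eq_iff_eq_mul.mp ?_).symm
      rw [map_mul, map_inv, show (π s)⁻¹ * π g * b * ((π s)⁻¹ * π g)⁻¹ =
        (π s)⁻¹ * (π g * b * (π g)⁻¹) * π s by group, hnot g hg,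
        show (π s)⁻¹ * b⁻¹ * π s = ((π s)⁻¹ * b * π s)⁻¹ by group, hsb', inv_inv]
    have hs2 : s * s ∈ C := (hmemC _).mpr (by
      refine (mul_inv_eq_iff_eq_mul.mp ?_).symm
      rw [map_mul, show π s * π s * b * (π s * π s)⁻¹ = π s * (π s * b * (π s)⁻¹) * (π s)⁻¹ by group,
        hsb, show π s * b⁻¹ * (π s)⁻¹ = (π s * b * (π s)⁻¹)⁻¹ by group, hsb, inv_inv])
    have hn : ∀ a ∈ C, s⁻¹ * a * s ∈ C := fun a ha => by
      refine (hmemC _).mpr (mul_inv_eq_iff_eq_mul.mp ?_).symm
      have h1 := mul_inv_eq_iff_eq_mul.mpr ((hmemC a).mp ha).eq.symm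
      rw [map_mul, map_mul, map_inv, show (π s)⁻¹ * π a * π s * b * ((π s)⁻¹ * π a * π s)⁻¹ =
        (π s)⁻¹ * (π a * (π s * b * (π s)⁻¹) * (π a)⁻¹) * π s by group, hsb,
        show π a * b⁻¹ * (π a)⁻¹ = (π a * b * (π a)⁻¹)⁻¹ by group, h1,
        show (π s)⁻¹ * b⁻¹ * π s = ((π s)⁻¹ * b * π s)⁻¹ by group, hsb', inv_inv]
    have haff : ∀ a ∈ C, ∃ α β : ZMod p, mat f (π a) = α • (1 : M2) + β • mat f b ∧
        mat f (π a) ^ p = α • (1 : M2) + β • mat f b ^ p := fun a ha => by
      obtain ⟨α, β, h⟩ := OddLocal43.exists_eq_add_smul_of_commute hns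
        (show mat f b * mat f (π a) = mat f (π a) * mat f b by
          rw [← mat_mul, ← mat_mul, ((hmemC a).mp ha).eq])
      refine ⟨α, β, h, ?_⟩
      rw [h, add_pow_char_of_commute _ (((Commute.one_left _).smul_left α).smul_right β), smul_pow,
        one_pow, ZMod.pow_card, smul_pow, ZMod.pow_card]
    rcases mul_self_eq_one_iff.mp (disc_pow_half_sq hp2 hD) with hc | hc
    · refine finrank_le_two_of_split hirr C s hgen hs2 hn hCc fun a ha => ?_
      rw [← map_pow]
      refine hρeq _ _ (mat_inj f hf ?_)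
      obtain ⟨α, β, h, h'⟩ := haff a ha
      rw [map_pow, mat_pow, h', pow_prime hp2 (mat f b), hc, one_smul, add_sub_cancel, ← h]
    · refine finrank_le_two_of_frobenius hp2 hirr C s hgen hs2 hCc (fun a ha => ?_) fun a _ => hF a
      rw [← map_pow, ← map_mul, ← map_mul]
      refine hρeq _ _ ?_
      rw [map_mul, map_mul, map_pow, ← mul_inv_eq_iff_eq_mul]
      refine mat_inj f hf ?_
      obtain ⟨α, β, h, h'⟩ := haff a ha
      have hbinv : mat f b ^ p = mat f b⁻¹ := by
        have h1 : mat f b * mat f b⁻¹ = 1 := by rw [← mat_mul, mul_inv_cancel, mat_one]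
        have h2 : mat f b⁻¹ * mat f b = 1 := by rw [← mat_mul, inv_mul_cancel, mat_one]
        have hc2 : (mat f b).trace • (1 : M2) - mat f b = mat f b⁻¹ := by
          calc _ = mat f b⁻¹ * (mat f b * ((mat f b).trace • (1 : M2) - mat f b)) := by
                rw [← mul_assoc, h2, one_mul]
            _ = _ := by rw [mul_companion, hdet1 b hbX1, one_smul, mul_one]
        rw [pow_prime hp2 (mat f b), hc, ← hc2, half]
        have h2' := OddLocal43.two_ne_zero_zmod hp2
        rw [neg_smul, one_smul, neg_sub, ← add_sub_assoc, ← add_smul]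
        congr 2
        field_simp
        ring
      rw [mat_pow, h', hbinv, ← hsb, mat_mul, mat_mul, h, mat_mul, mat_mul]
      simp only [mul_add, add_mul, mul_smul_comm, smul_mul_assoc, mul_one]
      rw [← mat_mul, mul_inv_cancel, mat_one]

end Cfsg.Agent.ClassTech.RankTwoChief
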