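import Cfsg.Agent.OddLocal43.RankTwo
import Cfsg.Agent.Lib.PGroup.Commutator

/-!
Groups of exponent `p`, class two and rank two.
-/

set_option autoImplicit false

namespace Cfsg.Agent.ClassTech.RankTwoChief

open Subgroup
open scoped commutatorElement

variable {p : ℕ} [hp : Fact p.Prime]

/-- The detecting subgroup `Z` is central, and small when it is proper. -/
theorem small_center {U : Type*} [Group U] [Finite U] (hexp : ∀ u : U, u ^ p = 1)
    (hr : Cfsg.PRankLE p 2 U) (Z : Subgroup U) [Z.Characteristic]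
    (hab : ∀ a b : U ⧸ Z, a * b = b * a)
    (hfix : ∀ σ : U ≃* U, (∀ u, σ u * u⁻¹ ∈ Z) → ∀ z ∈ Z, σ z = z) :
    Z ≤ center U ∧ Nat.card Z ≤ p ^ 2 ∧ (Z ≠ ⊤ → Nat.card Z ≤ p) := by
  have hcomm : ∀ a b : U, ⁅a, b⁆ ∈ Z := fun a b => by
    rw [← QuotientGroup.eq_one_iff, ← QuotientGroup.mk'_apply, map_commutatorElement,
      commutatorElement_eq_one_iff_mul_comm]
    exact hab _ _
  have hcent : Z ≤ center U := fun z hz => mem_center_iff.mpr fun g => by
    have h := hfix (MulAut.conj g) (fun u => by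
      rw [MulAut.conj_apply]; exact hcomm g u) z hz
    rw [MulAut.conj_apply] at h
    exact mul_inv_eq_iff_eq_mul.mp h
  have hc : ∀ z ∈ Z, ∀ g : U, g * z = z * g := fun z hz g => mem_center_iff.mp (hcent hz) g
  refine ⟨hcent, hr Z ⟨⟨fun a b => Subtype.ext (hc b b.2 a)⟩⟩ fun a _ => hexp a, fun hne => ?_⟩
  obtain ⟨u, -, hu⟩ := SetLike.exists_of_lt (lt_top_iff_ne_top.mpr hne)
  set E := closure ((Z : Set U) ∪ {u}) with hE
  have hEc : IsMulCommutative E := OddLocal43.isMulCommutative_closure_of_comm (by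
    rintro a (ha | ha) b hb
    · exact (hc a ha b).symm
    · rcases hb with hb | hb
      · exact hc b hb a
      · rw [Set.mem_singleton_iff.mp ha, Set.mem_singleton_iff.mp hb])
  have hlt : Z < E := lt_of_le_of_ne (fun z hz => subset_closure (Or.inl hz))
    fun h => hu (h ▸ subset_closure (Or.inr rfl))
  have hpE : IsPGroup p E := fun e => ⟨1, by rw [pow_one]; exact Subtype.ext (hexp e)⟩
  have h1 := (OddLocal43.mul_le_card_of_lt hp.out hpE hlt).trans (hr E hEc fun a _ => hexp a)
  rw [pow_two] at h1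
  exact Nat.le_of_mul_le_mul_left h1 hp.out.pos

theorem card_le_cube {U : Type*} [Group U] [Finite U] (hexp : ∀ u : U, u ^ p = 1)
    (hcl : ∀ u v w : U, Commute ⁅u, v⁆ w) (hr : Cfsg.PRankLE p 2 U) : Nat.card U ≤ p ^ 3 := by
  obtain ⟨Z, hZ, hab, hcard, hfix⟩ := OddLocal43.exists_small_quotient hexp hcl hr
  haveI := hZ
  obtain ⟨-, h2, h3⟩ := small_center hexp hr Z hab hfix
  rw [card_eq_card_quotient_mul_card_subgroup Z]
  rcases eq_or_ne Z ⊤ with h | h
  · have : Nat.card (U ⧸ Z) = 1 := by rw [h]; exact index_top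
    rw [this, one_mul]
    exact h2.trans (Nat.pow_le_pow_right hp.out.pos (by norm_num))
  · calc Nat.card (U ⧸ Z) * Nat.card Z ≤ p ^ 2 * p := Nat.mul_le_mul hcard (h3 h)
      _ = p ^ 3 := by ring

/-- In a class two `p`-group of rank two, `p` odd, at most `p ^ 3` elements are killed by `p`. -/
theorem card_pow_eq_one_le {M : Type*} [Group M] [Finite M] (hp2 : p ≠ 2)
    (hcl : commutator M ≤ center M) (hr : Cfsg.PRankLE p 2 M) :
    Nat.card {x : M // x ^ p = 1} ≤ p ^ 3 := by
  have htop : ⁅(⊤ : Subgroup M), ⊤⁆ ≤ centralizer ((⊤ : Subgroup M) : Set M) := by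
    rw [← commutator_def]; exact hcl.trans (center_le_centralizer _)
  set U := OddLocal43.omegaClassTwo hp.out hp2 ⊤ htop with hU
  have h : Nat.card U = Nat.card {x : M // x ^ p = 1} :=
    Nat.card_congr (Equiv.subtypeEquivRight fun x => ⟨fun h => h.2, fun h => ⟨mem_top _, h⟩⟩)
  rw [← h]
  refine card_le_cube (U := U) (fun u => Subtype.ext (by simpa using u.2.2))
    (fun u v w => Subtype.ext ?_) (OddLocal43.prankLE_of_injective U.subtype U.subtype_injective hr)
  exact (PGroup.commute_comm hcl (u : M) (v : M) (w : M)).eq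

end Cfsg.Agent.ClassTech.RankTwoChief
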